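import Mathlib

/-! Products of cycles given by lists. -/

set_option autoImplicit false

namespace Cfsg.Agent.Perm.CycleProduct

open Equiv List

variable {α β : Type*} [DecidableEq α] [DecidableEq β]

theorem formPerm_snoc (L : List α) (h : L ≠ []) (z : α) :
    (L ++ [z]).formPerm = L.formPerm * swap (L.getLast h) z := by
  conv_lhs => rw [← dropLast_append_getLast h]
  rw [append_assoc, singleton_append, formPerm_append_pair, dropLast_append_getLast h]

theorem formPerm_merge (A : List α) (b : α) (B : List α) :
    (A ++ b :: B).formPerm = (A ++ [b]).formPerm * (b :: B).formPerm := by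
  induction B using List.reverseRecOn with
  | nil => simp
  | append_singleton B z ih =>
    have h1 : A ++ b :: (B ++ [z]) = (A ++ b :: B) ++ [z] := by simp
    have h2 : b :: (B ++ [z]) = (b :: B) ++ [z] := by simp
    rw [h1, h2, formPerm_snoc _ (by simp), formPerm_snoc (b :: B) (by simp), ih]
    simp [List.getLast_append, mul_assoc]

/-- A segment is a list with a distinguished last element. -/
def seg (S : List α × α) : List α := S.1 ++ [S.2]

def segs (Ls : List (List α × α)) : List α := (Ls.map seg).flatten

def lasts (Ls : List (List α × α)) : List α := Ls.map Prod.snd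

def segProd (Ls : List (List α × α)) : Perm α := (Ls.map fun S => (seg S).formPerm).prod

theorem formPerm_segs : ∀ (Ls : List (List α × α)) (T : List α), (segs Ls ++ T).Nodup →
    (segs Ls ++ T).formPerm = segProd Ls * (T ++ lasts Ls).formPerm
  | [], T, _ => by simp [segs, lasts, segProd]
  | S :: R, T, hnd => by
    obtain ⟨A, b⟩ := S
    have h1 : segs ((A, b) :: R) ++ T = A ++ b :: (segs R ++ T) := by simp [segs, seg]
    rw [h1] at hnd ⊢
    have hnd' : (b :: (segs R ++ T)).Nodup := (nodup_append.1 hnd).2.1
    have hrot : (b :: (segs R ++ T)) ~r (segs R ++ (T ++ [b])) :=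
      ⟨1, by simp [rotate_cons_succ]⟩
    rw [formPerm_merge, formPerm_eq_of_isRotated hnd' hrot,
      formPerm_segs R (T ++ [b]) (hrot.nodup_iff.1 hnd'), segProd, segProd, lasts, lasts]
    simp [seg, mul_assoc]

theorem disjoint_of_formPerm {l : List α} {σ : Perm α} (h : ∀ x ∈ l, σ x = x) :
    Perm.Disjoint l.formPerm σ := fun x => by
  by_cases hx : x ∈ l
  · exact Or.inr (h x hx)
  · exact Or.inl (formPerm_apply_of_notMem hx)

theorem segProd_apply_of_notMem : ∀ (Ls : List (List α × α)) (x : α), x ∉ segs Ls →
    segProd Ls x = x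
  | [], x, _ => rfl
  | S :: R, x, hx => by
    have h1 : segs (S :: R) = seg S ++ segs R := by simp [segs]
    rw [h1, mem_append, not_or] at hx
    have h2 : segProd (S :: R) = (seg S).formPerm * segProd R := by simp [segProd]
    rw [h2, Perm.mul_apply, segProd_apply_of_notMem R x hx.2, formPerm_apply_of_notMem hx.1]

theorem cycleType_formPerm_eq [Fintype α] {l : List α} (h : l.Nodup) :
    l.formPerm.cycleType = (({l.length} : Multiset ℕ).filter (2 ≤ ·)) := by
  by_cases hl : 2 ≤ l.length
  · rw [(List.isCycle_formPerm h hl).cycleType, support_formPerm_of_nodup l h (by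
      rintro x rfl; simp at hl), card_toFinset, h.dedup, Multiset.filter_singleton, if_pos hl]
  · rw [(formPerm_eq_one_iff l h).2 (by omega), Perm.cycleType_one, Multiset.filter_singleton,
      if_neg hl]
    rfl

theorem cycleType_segProd [Fintype α] : ∀ (Ls : List (List α × α)), (segs Ls).Nodup →
    (segProd Ls).cycleType =
      (((Ls.map fun S => S.1.length + 1 : List ℕ) : Multiset ℕ).filter (2 ≤ ·))
  | [], _ => by simp [segProd]
  | S :: R, hnd => by
    have h1 : segs (S :: R) = seg S ++ segs R := by simp [segs]
    rw [h1, nodup_append] at hnd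
    have h2 : segProd (S :: R) = (seg S).formPerm * segProd R := by simp [segProd]
    have hd : Perm.Disjoint (seg S).formPerm (segProd R) :=
      disjoint_of_formPerm fun x hx =>
        segProd_apply_of_notMem R x fun hx' => hnd.2.2 x hx x hx' rfl
    rw [h2, hd.cycleType_mul, cycleType_segProd R hnd.2.1, cycleType_formPerm_eq hnd.1,
      List.map_cons, ← Multiset.cons_coe, ← Multiset.singleton_add, Multiset.filter_add]
    simp [seg]

theorem commute_segProd {l : List α} (Ls : List (List α × α)) (h : ∀ x ∈ l, x ∉ segs Ls) :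
    Commute l.formPerm (segProd Ls) :=
  (disjoint_of_formPerm fun x hx => segProd_apply_of_notMem Ls x (h x hx)).commute

theorem exists_segs : ∀ (sizes : List ℕ) (L : List α), (∀ s ∈ sizes, 1 ≤ s) → sizes.sum = L.length →
    ∃ Ls : List (List α × α), segs Ls = L ∧ (Ls.map fun S => S.1.length + 1) = sizes
  | [], L, _, h => ⟨[], by simpa [segs] using (List.eq_nil_of_length_eq_zero h.symm).symm, rfl⟩
  | s :: ss, L, hpos, h => by
    have hs := hpos s (by simp)
    simp only [List.sum_cons] at h
    obtain ⟨Ls, h1, h2⟩ := exists_segs ss (L.drop s) (fun t ht => hpos t (by simp [ht]))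
      (by simp; omega)
    have hne : L.take s ≠ [] := fun h0 => by
      have := congrArg List.length h0
      rw [List.length_take, List.length_nil] at this
      omega
    refine ⟨((L.take s).dropLast, (L.take s).getLast hne) :: Ls, ?_, ?_⟩
    · have : segs (((L.take s).dropLast, (L.take s).getLast hne) :: Ls) =
          seg ((L.take s).dropLast, (L.take s).getLast hne) ++ segs Ls := by simp [segs]
      rw [this, h1, seg, dropLast_append_getLast hne, take_append_drop]
    · simp only [List.map_cons, h2, List.cons.injEq, and_true, length_dropLast, length_take]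
      omega

/-! ### Transport along maps -/

theorem formPerm_map_equiv (σ : Perm α) : ∀ l : List α,
    (l.map σ).formPerm = σ * l.formPerm * σ⁻¹
  | [] => by simp
  | [x] => by simp
  | x :: y :: l => by
    have ih := formPerm_map_equiv σ (y :: l)
    simp only [List.map_cons, formPerm_cons_cons] at ih ⊢
    rw [ih, Equiv.swap_apply_apply]
    group

theorem formPerm_map_emb (g : α ↪ β) : ∀ l : List α,
    (l.map g).formPerm = Perm.viaEmbeddingHom g l.formPerm
  | [] => by simp
  | [x] => by simp
  | x :: y :: l => by
    have ih := formPerm_map_emb g (y :: l)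
    simp only [List.map_cons, formPerm_cons_cons] at ih ⊢
    rw [ih, map_mul]
    congr 1
    apply Equiv.ext
    intro z
    rw [Perm.viaEmbeddingHom_apply]
    by_cases hz : z ∈ Set.range g
    · obtain ⟨t, rfl⟩ := hz
      rw [Perm.viaEmbedding_apply]
      simp only [Equiv.swap_apply_def, EmbeddingLike.apply_eq_iff_eq]
      split_ifs <;> rfl
    · rw [Perm.viaEmbedding_apply_of_notMem _ _ _ hz, Equiv.swap_apply_of_ne_of_ne]
      · exact fun h => hz ⟨x, h.symm⟩
      · exact fun h => hz ⟨y, h.symm⟩

theorem transport {n : ℕ} (g : Fin n ↪ α) {l l₁ l₂ : List (Fin n)}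
    (h : l.formPerm = l₁.formPerm * l₂.formPerm) :
    (l.map g).formPerm = (l₁.map g).formPerm * (l₂.map g).formPerm := by
  simp only [formPerm_map_emb, ← map_mul, h]

/-- The embedding of `Fin n` given by a nodup list. -/
def embOfNodup {n : ℕ} (l : List α) (h : l.Nodup) (hl : l.length = n) : Fin n ↪ α :=
  ⟨fun i => l[(i : ℕ)]'(hl ▸ i.isLt), fun i j hij => Fin.ext (h.getElem_inj_iff.1 hij)⟩

theorem three_split (A : List α) (x y b : α) (h : (A ++ [x, y, b]).Nodup) :
    (A ++ [x, y, b]).formPerm = (A ++ [x, b, y]).formPerm * [y, x, b].formPerm := by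
  have h3 : [x, y, b].Nodup := (nodup_append.1 h).2.1
  have e : [x, y, b].formPerm = [x, b, y].formPerm * [y, x, b].formPerm :=
    transport (embOfNodup [x, y, b] h3 rfl)
      (show ([0, 1, 2] : List (Fin 3)).formPerm =
        ([0, 2, 1] : List (Fin 3)).formPerm * ([1, 0, 2] : List (Fin 3)).formPerm by decide)
  rw [formPerm_merge A x [y, b], formPerm_merge A x [b, y], e, mul_assoc]

theorem five_split (A : List α) (a b c d e : α) (h : (A ++ [a, b, c, d, e]).Nodup) :
    (A ++ [a, b, c, d, e]).formPerm =
      (A ++ [a, d, b, e, c]).formPerm * [c, a, d, b, e].formPerm := by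
  have h3 : [a, b, c, d, e].Nodup := (nodup_append.1 h).2.1
  have e' : [a, b, c, d, e].formPerm = [a, d, b, e, c].formPerm * [c, a, d, b, e].formPerm :=
    transport (embOfNodup [a, b, c, d, e] h3 rfl)
      (show ([0, 1, 2, 3, 4] : List (Fin 5)).formPerm =
        ([0, 3, 1, 4, 2] : List (Fin 5)).formPerm * ([2, 0, 3, 1, 4] : List (Fin 5)).formPerm by
          decide)
  rw [formPerm_merge A a [b, c, d, e], formPerm_merge A a [d, b, e, c], e', mul_assoc]

theorem seven_split (A : List α) (a b c d e f g : α) (h : (A ++ [a, b, c, d, e, f, g]).Nodup) :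
    (A ++ [a, b, c, d, e, f, g]).formPerm =
      (A ++ [a, e, b, f, c, g, d]).formPerm * [a, e, b, f, c, g, d].formPerm := by
  have h3 : [a, b, c, d, e, f, g].Nodup := (nodup_append.1 h).2.1
  have e' : [a, b, c, d, e, f, g].formPerm =
      [a, e, b, f, c, g, d].formPerm * [a, e, b, f, c, g, d].formPerm :=
    transport (embOfNodup [a, b, c, d, e, f, g] h3 rfl)
      (show ([0, 1, 2, 3, 4, 5, 6] : List (Fin 7)).formPerm =
        ([0, 4, 1, 5, 2, 6, 3] : List (Fin 7)).formPerm *
          ([0, 4, 1, 5, 2, 6, 3] : List (Fin 7)).formPerm by decide)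
  rw [formPerm_merge A a [b, c, d, e, f, g], formPerm_merge A a [e, b, f, c, g, d], e', mul_assoc]

/-- The even variant of `three_split`. -/
theorem four_split (A : List α) (a x y b : α) (h : (A ++ [a, x, y, b]).Nodup) :
    (A ++ [a, x, y, b]).formPerm = (A ++ [a, y, b, x]).formPerm * [a, b, x].formPerm := by
  have h3 : [a, x, y, b].Nodup := (nodup_append.1 h).2.1
  have e : [a, x, y, b].formPerm = [a, y, b, x].formPerm * [a, b, x].formPerm :=
    transport (embOfNodup [a, x, y, b] h3 rfl)
      (show ([0, 1, 2, 3] : List (Fin 4)).formPerm =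
        ([0, 2, 3, 1] : List (Fin 4)).formPerm * ([0, 3, 1] : List (Fin 4)).formPerm by decide)
  rw [formPerm_merge A a [x, y, b], formPerm_merge A a [y, b, x], e, mul_assoc]

end Cfsg.Agent.Perm.CycleProduct
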