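import Cfsg.Agent.Lib.Perm.CycleProduct.Nonsolvable
import Cfsg.Agent.Lib.Perm.CycleProduct.Lists

/-! A cycle of prime power length times a conjugate of an element of prime power order. -/

set_option autoImplicit false

namespace Cfsg.Agent.Perm.CycleProduct

open Equiv List

variable {β : Type*} [Fintype β] [DecidableEq β]

/-- `u * w` is not a `p`-element and `u, w` generate a nonsolvable group. -/
def Good {G : Type*} [Group G] (p : ℕ) (u w : G) : Prop :=
  (∀ e : ℕ, orderOf (u * w) ≠ p ^ e) ∧ ¬ Group.IsSolvable (Subgroup.closure ({u, w} : Set G))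

theorem apply_next (A : List β) (x y : β) (B : List β) (h : (A ++ x :: y :: B).Nodup) :
    (A ++ x :: y :: B).formPerm x = y := by
  rw [formPerm_merge, Perm.mul_apply, formPerm_apply_head _ _ _ (nodup_append.1 h).2.1,
    formPerm_apply_of_notMem]
  have h' := nodup_append.1 h
  simp only [mem_append, mem_singleton, not_or]
  refine ⟨fun hy => h'.2.2 y hy y (by simp) rfl, fun he => ?_⟩
  have := h'.2.1
  simp [he] at this

theorem lasts_sublist : ∀ Ls : List (List β × β), (lasts Ls).Sublist (segs Ls)
  | [] => by simp [lasts, segs]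
  | S :: R => by
    have h1 : segs (S :: R) = (S.1 ++ [S.2]) ++ segs R := by simp [segs, seg]
    have h2 : lasts (S :: R) = ([] ++ [S.2]) ++ lasts R := by simp [lasts]
    rw [h1, h2]
    exact ((List.nil_sublist _).append (List.Sublist.refl _)).append (lasts_sublist R)

theorem exists_ends {l : List β} (h : 2 ≤ l.length) : ∃ A x y, l = A ++ [x, y] := by
  rcases List.eq_nil_or_concat l with rfl | ⟨L, y, rfl⟩
  · simp at h
  rcases List.eq_nil_or_concat L with rfl | ⟨A, x, rfl⟩
  · simp at h
  exact ⟨A, x, y, by simp⟩

variable {p a : ℕ}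

theorem finish (hp : p.Prime) {c P : Perm β} (hcyc : c.IsCycle) (hfull : c.support = Finset.univ)
    (hk : Fintype.card β = p ^ a) (hodd : Odd (Fintype.card β)) {l : List β} (hl : l.Nodup)
    (hodd' : Odd l.length) (hlp : ¬ p ∣ l.length) (hl1 : 1 < l.length)
    (heq : c = P * l.formPerm) {x : β} (hx : x ∈ l) (hcx : c x ∈ l) : Good p c P⁻¹ := by
  have hsupp : l.formPerm.support = l.toFinset :=
    support_formPerm_of_nodup l hl (by rintro y rfl; simp at hl1)
  have hcard : l.formPerm.support.card = l.length := by
    rw [hsupp, card_toFinset, hl.dedup]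
  have hcycl := List.isCycle_formPerm hl hl1
  refine ⟨fun e he => ?_, ?_⟩
  · have hconj : orderOf (c * P⁻¹) = orderOf l.formPerm := by
      have : c * P⁻¹ = P * l.formPerm * P⁻¹ := by rw [heq]
      rw [this, ← MulAut.conj_apply]
      exact orderOf_injective (MulAut.conj P).toMonoidHom (MulAut.conj P).injective _
    rw [hconj, hcycl.orderOf, hcard] at he
    rcases e with _ | e
    · rw [pow_zero] at he; omega
    · exact hlp ⟨p ^ e, by rw [he, pow_succ']⟩
  · have hc : c ∈ Subgroup.closure ({c, P⁻¹} : Set (Perm β)) := Subgroup.subset_closure (by simp)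
    have hP : P⁻¹ ∈ Subgroup.closure ({c, P⁻¹} : Set (Perm β)) := Subgroup.subset_closure (by simp)
    have hz : l.formPerm ∈ Subgroup.closure ({c, P⁻¹} : Set (Perm β)) := by
      rw [show l.formPerm = P⁻¹ * c by rw [heq]; group]
      exact mul_mem hP hc
    refine not_isSolvable_of_cycles hc hz hcyc hfull hodd hcycl (hcard ▸ hodd') ?_
      (x := x) (hsupp ▸ List.mem_toFinset.2 hx) (hsupp ▸ List.mem_toFinset.2 hcx)
    rw [hcard, hk]
    exact Nat.Coprime.pow_right _ ((Nat.Prime.coprime_iff_not_dvd hp).2 hlp).symm

theorem exists_list {c : Perm β} (hcyc : c.IsCycle) (hfull : c.support = Finset.univ) :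
    ∃ L : List β, L.Nodup ∧ L.length = Fintype.card β ∧ L.formPerm = c := by
  obtain ⟨x, hx⟩ : c.support.Nonempty := Finset.card_pos.1 (by have := hcyc.two_le_card_support; omega)
  have hof : c.cycleOf x = c := hcyc.cycleOf_eq (Perm.mem_support.1 hx)
  refine ⟨c.toList x, Perm.nodup_toList c x, ?_, ?_⟩
  · rw [Perm.length_toList, hof, hfull, Finset.card_univ]
  · rw [Perm.formPerm_toList, hof]

theorem odd_sum : ∀ s : List ℕ, (∀ i ∈ s, Odd i) → (Odd s.sum ↔ Odd s.length)
  | [], _ => by simp
  | i :: s, h => by
    have hi := h i (by simp)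
    have ih := odd_sum s fun j hj => h j (by simp [hj])
    simp only [List.sum_cons, List.length_cons, Nat.odd_iff] at *
    omega

theorem exists_good_gen (hp : p.Prime) (hp3 : 3 ≤ p) {c : Perm β} (hcyc : c.IsCycle)
    (hfull : c.support = Finset.univ) (hk : Fintype.card β = p ^ a) (h5 : 5 ≤ Fintype.card β)
    {w : Perm β} (hw : w ≠ 1) (hparts : ∀ s ∈ w.cycleType, ∃ i, s = p ^ i) :
    ∃ q : Perm β, Good p c (q * w * q⁻¹) := by
  classical
  have hpodd : Odd p := hp.odd_of_ne_two (by omega)
  have hodd : Odd (Fintype.card β) := hk ▸ hpodd.pow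
  have hsum : w.cycleType.sum ≤ Fintype.card β := by
    rw [Perm.sum_cycleType]; exact Finset.card_le_univ _
  set M : Multiset ℕ := w.cycleType + Multiset.replicate (Fintype.card β - w.cycleType.sum) 1
    with hM
  have hMpow : ∀ s ∈ M, ∃ i, s = p ^ i := by
    intro s hs
    rcases Multiset.mem_add.1 hs with h | h
    · exact hparts s h
    · exact ⟨0, by rw [Multiset.eq_of_mem_replicate h, pow_zero]⟩
  have hMsum : M.sum = Fintype.card β := by
    rw [hM, Multiset.sum_add, Multiset.sum_replicate, smul_eq_mul, mul_one]; omega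
  have hMfilter : M.filter (2 ≤ ·) = w.cycleType := by
    rw [hM, Multiset.filter_add, Multiset.filter_eq_self.2 fun s hs => Perm.two_le_of_mem_cycleType hs,
      Multiset.filter_eq_nil.2 fun s hs => by rw [Multiset.eq_of_mem_replicate hs]; omega, add_zero]
  obtain ⟨L, hnd, hlen, hform⟩ := exists_list hcyc hfull
  -- it suffices to factor `c`
  suffices ∃ (Ls : List (List β × β)) (l : List β) (x : β), (segs Ls).Nodup ∧
      (Ls.map fun S => S.1.length + 1 : List ℕ) = M ∧ l.Nodup ∧ Odd l.length ∧ ¬ p ∣ l.length ∧
      1 < l.length ∧ c = segProd Ls * l.formPerm ∧ x ∈ l ∧ c x ∈ l by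
    obtain ⟨Ls, l, x, h1, h2, h3, h4, h5', h6, h7, h8, h9⟩ := this
    have hct : (segProd Ls)⁻¹.cycleType = w.cycleType := by
      rw [Perm.cycleType_inv, cycleType_segProd Ls h1, h2, hMfilter]
    obtain ⟨q, hq⟩ := isConj_iff.1 (Perm.isConj_iff_cycleType_eq.2 hct.symm)
    exact ⟨q, hq ▸ finish hp hcyc hfull hk hodd h3 h4 h5' h6 h7 h8 h9⟩
  -- splitting according to an ordering of the parts
  have hsplit : ∀ sizes : List ℕ, (sizes : Multiset ℕ) = M → ∃ Ls : List (List β × β),
      segs Ls = L ∧ (Ls.map fun S => S.1.length + 1) = sizes := by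
    intro sizes hs
    refine exists_segs sizes L (fun s hs' => ?_) ?_
    · obtain ⟨i, rfl⟩ := hMpow s (hs ▸ Multiset.mem_coe.2 hs')
      exact Nat.one_le_pow _ _ hp.pos
    · rw [← Multiset.sum_coe, hs, hMsum, hlen]
  have hr : Odd M.card := by
    obtain ⟨sizes, hsz⟩ : ∃ sizes : List ℕ, (sizes : Multiset ℕ) = M := ⟨M.toList, M.coe_toList⟩
    rw [← hsz] at hMsum hMpow ⊢
    rw [Multiset.coe_card, ← odd_sum sizes fun i hi => ?_, ← Multiset.sum_coe, hMsum]
    · exact hodd
    · obtain ⟨j, rfl⟩ := hMpow i hi
      exact hpodd.pow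
  obtain ⟨s0, hs0⟩ : ∃ s, s ∈ w.cycleType := Multiset.exists_mem_of_ne_zero
    (fun h => hw (Perm.cycleType_eq_zero.1 h))
  have hs0M : s0 ∈ M := Multiset.mem_add.2 (Or.inl hs0)
  have hs03 : 3 ≤ s0 := by
    obtain ⟨i, rfl⟩ := hparts s0 hs0
    rcases i with _ | i
    · simpa using Perm.two_le_of_mem_cycleType hs0
    · exact le_trans hp3 (Nat.le_self_pow (by omega) p)
  by_cases hcase : p ∣ M.card + 2
  swap
  · -- a three-cycle inside a part
    obtain ⟨Ls, hL1, hL2⟩ := hsplit (s0 :: (M.erase s0).toList) (by
      rw [← Multiset.cons_coe, Multiset.coe_toList, Multiset.cons_erase hs0M])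
    rcases Ls with _ | ⟨⟨A', b⟩, R⟩
    · simp at hL2
    simp only [List.map_cons, List.cons.injEq] at hL2
    obtain ⟨A, x, y, rfl⟩ := exists_ends (l := A') (by omega)
    have hseg : segs ((A ++ [x, y], b) :: R) = (A ++ [x, y, b]) ++ segs R := by simp [segs, seg]
    have hnd' : ((A ++ [x, y, b]) ++ segs R).Nodup := hseg ▸ hL1 ▸ hnd
    have hRlen : (lasts R).length + 1 = M.card := by
      have := congrArg List.length hL2.2
      rw [List.length_map, Multiset.length_toList, Multiset.card_erase_of_mem hs0M,
        Nat.pred_eq_sub_one] at this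
      have h0 : 0 < M.card := Multiset.card_pos_iff_exists_mem.2 ⟨s0, hs0M⟩
      simp only [lasts, List.length_map]
      omega
    have hsub : (y :: x :: b :: lasts R).Nodup := by
      have h2 : ([x, y, b] ++ lasts R).Nodup :=
        List.Nodup.sublist (((List.sublist_append_right A [x, y, b])).append (lasts_sublist R)) hnd'
      exact (List.Perm.nodup_iff (List.Perm.swap y x _)).1 (by simpa using h2)
    refine ⟨(A ++ [x, b], y) :: R, y :: x :: b :: lasts R, x, ?_, ?_, hsub, ?_, ?_, by simp, ?_,
      by simp, ?_⟩
    · have : segs ((A ++ [x, b], y) :: R) = (A ++ [x, b, y]) ++ segs R := by simp [segs, seg]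
      rw [this]
      exact (List.Perm.nodup_iff
        (((List.Perm.swap b y []).cons x).append_left A |>.append_right _)).1 hnd'
    · rw [List.map_cons, hL2.2]
      have hs : (A ++ [x, b]).length + 1 = s0 := by simpa using hL2.1
      rw [show ((A ++ [x, b], y).1.length + 1) = s0 from hs, ← Multiset.cons_coe,
        Multiset.coe_toList, Multiset.cons_erase hs0M]
    · rw [Nat.odd_iff] at hr ⊢
      simp only [List.length_cons]
      omega
    · rwa [show (y :: x :: b :: lasts R).length = M.card + 2 by simp; omega]
    · have h1 := formPerm_segs ((A ++ [x, y], b) :: R) [] (by rw [List.append_nil, hL1]; exact hnd)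
      rw [List.append_nil, hL1, hform, List.nil_append] at h1
      have hcom : Commute [y, x, b].formPerm (segProd R) := commute_segProd R fun z hz hz' => by
        have := (nodup_append.1 hnd').2.2 z (by simp at hz ⊢; tauto) z hz'
        exact this rfl
      rw [h1]
      simp only [segProd, List.map_cons, List.prod_cons, lasts, seg, List.append_assoc,
        List.cons_append, List.nil_append]
      rw [three_split A x y b (nodup_append.1 hnd').1,
        show y :: x :: b :: R.map Prod.snd = [y, x] ++ b :: R.map Prod.snd from rfl,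
        formPerm_merge [y, x] b, show [y, x] ++ [b] = [y, x, b] from rfl]
      simp only [segProd, seg] at hcom
      rw [mul_assoc (A ++ [x, b, y]).formPerm, hcom.eq]
      simp only [mul_assoc]
    · have hc : c = (A ++ x :: y :: (b :: segs R)).formPerm := by
        rw [← hform, ← hL1, hseg]; simp
      rw [hc, apply_next A x y _ (by simpa using hnd')]
      simp
  by_cases hbig : ∃ s ∈ M, 5 ≤ s
  · -- a five-cycle inside a part
    obtain ⟨s1, hs1M, hs15⟩ := hbig
    obtain ⟨Ls, hL1, hL2⟩ := hsplit (s1 :: (M.erase s1).toList) (by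
      rw [← Multiset.cons_coe, Multiset.coe_toList, Multiset.cons_erase hs1M])
    rcases Ls with _ | ⟨⟨A', e⟩, R⟩
    · simp at hL2
    simp only [List.map_cons, List.cons.injEq] at hL2
    obtain ⟨A'', x, y, rfl⟩ := exists_ends (l := A') (by omega)
    obtain ⟨A, t, v, rfl⟩ := exists_ends (l := A'') (by
      have := hL2.1
      simp at this
      omega)
    have hseg : segs ((A ++ [t, v] ++ [x, y], e) :: R) = (A ++ [t, v, x, y, e]) ++ segs R := by
      simp [segs, seg]
    have hnd' : ((A ++ [t, v, x, y, e]) ++ segs R).Nodup := hseg ▸ hL1 ▸ hnd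
    have hRlen : (lasts R).length + 1 = M.card := by
      have := congrArg List.length hL2.2
      rw [List.length_map, Multiset.length_toList, Multiset.card_erase_of_mem hs1M,
        Nat.pred_eq_sub_one] at this
      have h0 : 0 < M.card := Multiset.card_pos_iff_exists_mem.2 ⟨s1, hs1M⟩
      simp only [lasts, List.length_map]
      omega
    have hperm : List.Perm [x, t, y, v, e] [t, v, x, y, e] := by
      refine List.perm_iff_count.2 fun z => ?_
      simp only [List.count_cons, List.count_nil]
      omega
    have hperm' : List.Perm [t, y, v, e, x] [t, v, x, y, e] := by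
      refine List.perm_iff_count.2 fun z => ?_
      simp only [List.count_cons, List.count_nil]
      omega
    have hsub : ([x, t, y, v, e] ++ lasts R).Nodup := by
      have h2 : ([t, v, x, y, e] ++ lasts R).Nodup :=
        List.Nodup.sublist (((List.sublist_append_right A [t, v, x, y, e])).append (lasts_sublist R))
          hnd'
      exact (List.Perm.nodup_iff (hperm.append_right _)).2 h2
    refine ⟨(A ++ [t, y, v, e], x) :: R, [x, t, y, v, e] ++ lasts R, x, ?_, ?_, hsub, ?_, ?_,
      by simp, ?_, by simp, ?_⟩
    · have : segs ((A ++ [t, y, v, e], x) :: R) = (A ++ [t, y, v, e, x]) ++ segs R := by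
        simp [segs, seg]
      rw [this]
      exact (List.Perm.nodup_iff ((hperm'.append_left A).append_right _)).2 hnd'
    · rw [List.map_cons, hL2.2]
      have hs : (A ++ [t, y, v, e]).length + 1 = s1 := by simpa using hL2.1
      rw [show ((A ++ [t, y, v, e], x).1.length + 1) = s1 from hs, ← Multiset.cons_coe,
        Multiset.coe_toList, Multiset.cons_erase hs1M]
    · rw [Nat.odd_iff] at hr ⊢
      simp only [List.length_append, List.length_cons, List.length_nil]
      omega
    · intro hd
      rw [show ([x, t, y, v, e] ++ lasts R).length = (M.card + 2) + 2 by simp; omega] at hd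
      have h2 := (Nat.dvd_add_right hcase).1 hd
      have := Nat.le_of_dvd (by norm_num) h2
      omega
    · have h1 := formPerm_segs ((A ++ [t, v] ++ [x, y], e) :: R) []
        (by rw [List.append_nil, hL1]; exact hnd)
      rw [List.append_nil, hL1, hform, List.nil_append] at h1
      have hcom : Commute [x, t, y, v, e].formPerm (segProd R) := commute_segProd R fun z hz hz' => by
        have := (nodup_append.1 hnd').2.2 z (by simp at hz ⊢; tauto) z hz'
        exact this rfl
      rw [h1]
      simp only [segProd, List.map_cons, List.prod_cons, lasts, seg, List.append_assoc,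
        List.cons_append, List.nil_append]
      rw [five_split A t v x y e (nodup_append.1 hnd').1,
        show x :: t :: y :: v :: e :: R.map Prod.snd = [x, t, y, v] ++ e :: R.map Prod.snd from rfl,
        formPerm_merge [x, t, y, v] e, show [x, t, y, v] ++ [e] = [x, t, y, v, e] from rfl]
      simp only [segProd, seg] at hcom
      rw [mul_assoc (A ++ [t, y, v, e, x]).formPerm, hcom.eq]
      simp only [mul_assoc]
    · have hc : c = ((A ++ [t, v]) ++ x :: y :: (e :: segs R)).formPerm := by
        rw [← hform, ← hL1, hseg]; simp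
      rw [hc, apply_next (A ++ [t, v]) x y _ (by simpa using hnd')]
      simp
  -- all parts are 1 or 3
  push Not at hbig
  obtain ⟨i, hi⟩ := hparts s0 hs0
  have hs4 : s0 < 5 := hbig s0 hs0M
  have hp3' : p = 3 := by
    rcases i with _ | i
    · rw [hi] at hs03; simp at hs03
    · have h1 : p ≤ p ^ (i + 1) := Nat.le_self_pow (by omega) p
      have h4 : p ≠ 4 := by rintro rfl; norm_num at hp
      omega
  subst hp3'
  have hval : ∀ s ∈ M, s = 1 ∨ s = 3 := by
    intro s hs
    obtain ⟨j, rfl⟩ := hMpow s hs
    have := hbig _ hs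
    rcases j with _ | _ | j
    · left; rfl
    · right; rfl
    · have : 9 ≤ 3 ^ (j + 1 + 1) := by
        rw [pow_succ, pow_succ]
        have := Nat.one_le_pow j 3 (by norm_num)
        omega
      omega
  have ha2 : 2 ≤ a := by
    by_contra h
    interval_cases a <;> simp [hk] at h5
  have h9 : 9 ∣ Fintype.card β := hk ▸ (pow_dvd_pow 3 ha2)
  have hsum3 : ∀ N : Multiset ℕ, (∀ s ∈ N, s = 1 ∨ s = 3) → N.sum + 2 * N.count 1 = 3 * N.card := by
    intro N
    induction N using Multiset.induction_on with
    | empty => simp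
    | cons s N ih =>
      intro h
      have := ih fun t ht => h t (Multiset.mem_cons_of_mem ht)
      rcases h s (Multiset.mem_cons_self _ _) with rfl | rfl <;>
        simp [Multiset.count_cons] at this ⊢ <;> omega
  have h3 := hsum3 M hval
  have hcle := Multiset.count_le_card 1 M
  rw [hMsum] at h3
  have hone : 1 ∈ M := by
    by_contra h
    rw [Multiset.count_eq_zero.2 h] at h3
    omega
  have hne : (M.erase 1) ≠ 0 := fun h => by
    rw [← Multiset.cons_erase hone, h] at hMsum
    simp at hMsum
    omega
  obtain ⟨s2, hs2⟩ := Multiset.exists_mem_of_ne_zero hne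
  obtain ⟨Ls, hL1, hL2⟩ := hsplit (s2 :: 1 :: ((M.erase 1).erase s2).toList) (by
    rw [← Multiset.cons_coe, ← Multiset.cons_coe, Multiset.coe_toList, Multiset.cons_swap,
      Multiset.cons_erase hs2, Multiset.cons_erase hone])
  rcases Ls with _ | ⟨⟨A, b⟩, _ | ⟨⟨A2, y⟩, R⟩⟩
  · simp at hL2
  · simp at hL2
  have hA2 : A2 = [] := by simpa using (List.cons.inj (List.cons.inj hL2).2).1
  subst hA2
  have hlenL : (lasts ((A, b) :: ([], y) :: R)).length = M.card := by
    have := congrArg List.length hL2
    have h4 : ((s2 :: 1 :: ((M.erase 1).erase s2).toList) : List ℕ).length = M.card := by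
      rw [← Multiset.coe_card, ← Multiset.cons_coe, ← Multiset.cons_coe, Multiset.coe_toList,
        Multiset.cons_swap, Multiset.cons_erase hs2, Multiset.cons_erase hone]
    rw [h4, List.length_map] at this
    simpa [lasts] using this
  refine ⟨(A, b) :: ([], y) :: R, lasts ((A, b) :: ([], y) :: R), b, hL1 ▸ hnd, ?_, ?_, ?_, ?_, ?_,
    ?_, by simp [lasts], ?_⟩
  · rw [hL2, ← Multiset.cons_coe, ← Multiset.cons_coe, Multiset.coe_toList, Multiset.cons_swap,
      Multiset.cons_erase hs2, Multiset.cons_erase hone]
  · exact List.Nodup.sublist (lasts_sublist _) (hL1 ▸ hnd)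
  · rwa [hlenL]
  · rw [hlenL]; omega
  · simp [lasts]
  · have h1 := formPerm_segs ((A, b) :: ([], y) :: R) [] (by rw [List.append_nil, hL1]; exact hnd)
    rw [List.append_nil, hL1, hform, List.nil_append] at h1
    exact h1
  · have hseg : segs ((A, b) :: ([], y) :: R) = A ++ b :: y :: segs R := by simp [segs, seg]
    have hc : c = (A ++ b :: y :: segs R).formPerm := by rw [← hform, ← hL1, hseg]
    rw [hc, apply_next A b y _ (hseg ▸ hL1 ▸ hnd)]
    simp [lasts]

theorem exists_good_sign (hp : p.Prime) (hp3 : 3 ≤ p) {c : Perm β} (hcyc : c.IsCycle)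
    (hfull : c.support = Finset.univ) (hk : Fintype.card β = p ^ a) (h5 : 5 ≤ Fintype.card β)
    {w : Perm β} (hw : w.IsCycle) (hwfull : w.support = Finset.univ) (ε : ℤˣ) :
    ∃ q : Perm β, Perm.sign q = ε ∧ Good p c (q * w * q⁻¹) := by
  classical
  have hpodd : Odd p := hp.odd_of_ne_two (by omega)
  have hodd : Odd (Fintype.card β) := hk ▸ hpodd.pow
  have hct : w.cycleType = c⁻¹.cycleType := by
    rw [Perm.cycleType_inv, hcyc.cycleType, hw.cycleType, hfull, hwfull]
  obtain ⟨h, hh⟩ := isConj_iff.1 (Perm.isConj_iff_cycleType_eq.2 hct)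
  suffices ∀ δ : ℤˣ, ∃ σ : Perm β, Perm.sign σ = δ ∧ Good p c (σ * c * σ⁻¹)⁻¹ by
    obtain ⟨σ, hσ, hgood⟩ := this (ε * (Perm.sign h)⁻¹)
    refine ⟨σ * h, by rw [map_mul, hσ, inv_mul_cancel_right], ?_⟩
    rwa [show σ * h * w * (σ * h)⁻¹ = σ * (h * w * h⁻¹) * σ⁻¹ by group, hh,
      show σ * c⁻¹ * σ⁻¹ = (σ * c * σ⁻¹)⁻¹ by group]
  obtain ⟨L, hnd, hlen, hform⟩ := exists_list hcyc hfull
  have hmap : ∀ (σ : Perm β) (A : List β), (∀ z ∈ A, σ z = z) → A.map σ = A :=
    fun σ A hA => (List.map_congr_left hA).trans (List.map_id A)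
  have h9 : p = 3 → 9 ≤ Fintype.card β := by
    rintro rfl
    rcases a with _ | _ | a
    · omega
    · simp at hk; omega
    · rw [hk, pow_succ, pow_succ]
      have := Nat.one_le_pow a 3 (by norm_num)
      omega
  intro δ
  rcases Int.units_eq_one_or δ with rfl | rfl
  · -- even relabelling
    by_cases hp3' : p = 3
    · subst hp3'
      have hL7 := h9 rfl
      obtain ⟨L1, f, g, rfl⟩ := exists_ends (l := L) (by omega)
      simp only [List.length_append, List.length_cons, List.length_nil] at hlen
      obtain ⟨L2, d, e, rfl⟩ := exists_ends (l := L1) (by omega)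
      simp only [List.length_append, List.length_cons, List.length_nil] at hlen
      obtain ⟨L3, b, c', rfl⟩ := exists_ends (l := L2) (by omega)
      simp only [List.length_append, List.length_cons, List.length_nil] at hlen
      obtain ⟨A, a', rfl⟩ : ∃ A a', L3 = A ++ [a'] := by
        rcases List.eq_nil_or_concat L3 with rfl | ⟨A, a', rfl⟩
        · simp at hlen; omega
        · exact ⟨A, a', by simp⟩
      have e0 : A ++ [a'] ++ [b, c'] ++ [d, e] ++ [f, g] = A ++ [a', b, c', d, e, f, g] := by simp
      rw [e0] at hnd hform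
      have hn := nodup_append.1 hnd
      have hd7 := hn.2.1
      have hd7' := List.nodup_reverse.2 hn.2.1
      simp only [List.reverse_cons, List.reverse_nil, List.nil_append, List.cons_append,
        List.nodup_cons, List.mem_cons, List.not_mem_nil, List.nodup_nil, or_false,
        not_false_eq_true, and_true, not_or] at hd7 hd7'
      let σ : Perm β := (Equiv.swap b e * Equiv.swap e c') * (Equiv.swap d f * Equiv.swap f g)
      have hσ : Perm.sign σ = 1 := by
        simp [σ, Perm.sign_swap, hd7, hd7']
      refine ⟨σ, hσ, ?_⟩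
      have hAfix : ∀ z ∈ A, σ z = z := by
        intro z hz
        have hne : ∀ t ∈ [a', b, c', d, e, f, g], z ≠ t := fun t ht => hn.2.2 z hz t ht
        simp [σ, Equiv.swap_apply_of_ne_of_ne, hne]
      have hX : [a', b, c', d, e, f, g].map σ = [a', e, b, f, c', g, d] := by
        simp [σ, Equiv.swap_apply_def, hd7, hd7']
      have hP : σ * c * σ⁻¹ = (A ++ [a', e, b, f, c', g, d]).formPerm := by
        rw [← hform, ← formPerm_map_equiv, List.map_append, hmap σ A hAfix, hX]
      rw [hP]
      refine finish hp hcyc hfull hk hodd (l := [a', e, b, f, c', g, d]) ?_ (by decide : Odd 7)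
        (by norm_num) (by norm_num) (hform.symm.trans (seven_split A a' b c' d e f g hnd))
        (x := a') (by simp) ?_
      · have := hn.2.1
        rw [← hX]
        exact this.map σ.injective
      · rw [← hform, apply_next A a' b _ hnd]; simp
    · obtain ⟨L1, y, b, rfl⟩ := exists_ends (l := L) (by omega)
      simp only [List.length_append, List.length_cons, List.length_nil] at hlen
      obtain ⟨A, a', x, rfl⟩ := exists_ends (l := L1) (by omega)
      have e0 : A ++ [a', x] ++ [y, b] = A ++ [a', x, y, b] := by simp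
      rw [e0] at hnd hform
      have hn := nodup_append.1 hnd
      have hd4 := hn.2.1
      have hd4' := List.nodup_reverse.2 hn.2.1
      simp only [List.reverse_cons, List.reverse_nil, List.nil_append, List.cons_append,
        List.nodup_cons, List.mem_cons, List.not_mem_nil, List.nodup_nil, or_false,
        not_false_eq_true, and_true, not_or] at hd4 hd4'
      let σ : Perm β := Equiv.swap x y * Equiv.swap y b
      have hσ : Perm.sign σ = 1 := by simp [σ, Perm.sign_swap, hd4, hd4']
      refine ⟨σ, hσ, ?_⟩
      have hAfix : ∀ z ∈ A, σ z = z := by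
        intro z hz
        have hne : ∀ t ∈ [a', x, y, b], z ≠ t := fun t ht => hn.2.2 z hz t ht
        simp [σ, Equiv.swap_apply_of_ne_of_ne, hne]
      have hX : [a', x, y, b].map σ = [a', y, b, x] := by
        simp [σ, Equiv.swap_apply_def, hd4, hd4']
      have hP : σ * c * σ⁻¹ = (A ++ [a', y, b, x]).formPerm := by
        rw [← hform, ← formPerm_map_equiv, List.map_append, hmap σ A hAfix, hX]
      rw [hP]
      refine finish hp hcyc hfull hk hodd (l := [a', b, x]) ?_ (by decide : Odd 3) ?_ (by norm_num)
        (hform.symm.trans (four_split A a' x y b hnd)) (x := a') (by simp) ?_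
      · simp [hd4, hd4']
      · show ¬ p ∣ 3
        intro h; exact hp3' ((Nat.prime_dvd_prime_iff_eq hp Nat.prime_three).1 h)
      · rw [← hform, apply_next A a' x _ hnd]; simp
  · -- odd relabelling
    by_cases hp3' : p = 3
    · subst hp3'
      have hL7 := h9 rfl
      obtain ⟨L1, d, e, rfl⟩ := exists_ends (l := L) (by omega)
      simp only [List.length_append, List.length_cons, List.length_nil] at hlen
      obtain ⟨L2, b, c', rfl⟩ := exists_ends (l := L1) (by omega)
      simp only [List.length_append, List.length_cons, List.length_nil] at hlen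
      obtain ⟨A, a', rfl⟩ : ∃ A a', L2 = A ++ [a'] := by
        rcases List.eq_nil_or_concat L2 with rfl | ⟨A, a', rfl⟩
        · simp at hlen; omega
        · exact ⟨A, a', by simp⟩
      have e0 : A ++ [a'] ++ [b, c'] ++ [d, e] = A ++ [a', b, c', d, e] := by simp
      rw [e0] at hnd hform
      have hn := nodup_append.1 hnd
      have hd5 := hn.2.1
      have hd5' := List.nodup_reverse.2 hn.2.1
      simp only [List.reverse_cons, List.reverse_nil, List.nil_append, List.cons_append,
        List.nodup_cons, List.mem_cons, List.not_mem_nil, List.nodup_nil, or_false,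
        not_false_eq_true, and_true, not_or] at hd5 hd5'
      let σ : Perm β := Equiv.swap b d * Equiv.swap d e * Equiv.swap e c'
      have hσ : Perm.sign σ = -1 := by simp [σ, Perm.sign_swap, hd5, hd5']
      refine ⟨σ, hσ, ?_⟩
      have hAfix : ∀ z ∈ A, σ z = z := by
        intro z hz
        have hne : ∀ t ∈ [a', b, c', d, e], z ≠ t := fun t ht => hn.2.2 z hz t ht
        simp [σ, Equiv.swap_apply_of_ne_of_ne, hne]
      have hX : [a', b, c', d, e].map σ = [a', d, b, e, c'] := by
        simp [σ, Equiv.swap_apply_def, hd5, hd5']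
      have hP : σ * c * σ⁻¹ = (A ++ [a', d, b, e, c']).formPerm := by
        rw [← hform, ← formPerm_map_equiv, List.map_append, hmap σ A hAfix, hX]
      rw [hP]
      refine finish hp hcyc hfull hk hodd (l := [c', a', d, b, e]) ?_ (by decide : Odd 5)
        (by norm_num) (by norm_num) (hform.symm.trans (five_split A a' b c' d e hnd))
        (x := a') (by simp) ?_
      · simp [hd5, hd5']
      · rw [← hform, apply_next A a' b _ hnd]; simp
    · obtain ⟨L1, y, b, rfl⟩ := exists_ends (l := L) (by omega)
      simp only [List.length_append, List.length_cons, List.length_nil] at hlen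
      obtain ⟨A, x, rfl⟩ : ∃ A x, L1 = A ++ [x] := by
        rcases List.eq_nil_or_concat L1 with rfl | ⟨A, x, rfl⟩
        · simp at hlen; omega
        · exact ⟨A, x, by simp⟩
      have e0 : A ++ [x] ++ [y, b] = A ++ [x, y, b] := by simp
      rw [e0] at hnd hform
      have hn := nodup_append.1 hnd
      have hd3 := hn.2.1
      have hd3' := List.nodup_reverse.2 hn.2.1
      simp only [List.reverse_cons, List.reverse_nil, List.nil_append, List.cons_append,
        List.nodup_cons, List.mem_cons, List.not_mem_nil, List.nodup_nil, or_false,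
        not_false_eq_true, and_true, not_or] at hd3 hd3'
      refine ⟨Equiv.swap y b, Perm.sign_swap hd3.2, ?_⟩
      have hAfix : ∀ z ∈ A, Equiv.swap y b z = z := fun z hz =>
        Equiv.swap_apply_of_ne_of_ne (hn.2.2 z hz y (by simp)) (hn.2.2 z hz b (by simp))
      have hX : [x, y, b].map (Equiv.swap y b) = [x, b, y] := by
        simp [Equiv.swap_apply_def, hd3, hd3']
      have hP : Equiv.swap y b * c * (Equiv.swap y b)⁻¹ = (A ++ [x, b, y]).formPerm := by
        rw [← hform, ← formPerm_map_equiv, List.map_append, hmap _ A hAfix, hX]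
      rw [hP]
      refine finish hp hcyc hfull hk hodd (l := [y, x, b]) ?_ (by decide : Odd 3) ?_ (by norm_num)
        (hform.symm.trans (three_split A x y b hnd)) (x := x) (by simp) ?_
      · simp [hd3, hd3']
      · show ¬ p ∣ 3
        intro h; exact hp3' ((Nat.prime_dvd_prime_iff_eq hp Nat.prime_three).1 h)
      · rw [← hform, apply_next A x y _ hnd]; simp

end Cfsg.Agent.Perm.CycleProduct
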