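import Cfsg.Agent.Lib.Perm.CycleProduct.Local

/-! Products of elements of order three in degrees five and six. -/

set_option autoImplicit false

namespace Cfsg.Agent.Perm.CycleProduct

open Equiv

theorem not_isSolvable_235 {G : Type*} [Group G] (H : Subgroup G) {x y : G} (hxH : x ∈ H) (hyH : y ∈ H)
    (hx : x ^ 3 = 1) (hy : y ^ 5 = 1) (hxy : (x * y) ^ 2 = 1) (hne : x ≠ 1) :
    ¬ Group.IsSolvable H := by
  intro hsol
  obtain ⟨n, hn⟩ := (Group.isSolvable_def H).1 hsol
  set a : H := ⟨x, hxH⟩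
  set b : H := ⟨y, hyH⟩
  have ha : a ^ 3 = 1 := Subtype.ext (by simpa [a] using hx)
  have hb : b ^ 5 = 1 := Subtype.ext (by simpa [b] using hy)
  have hab : (a * b) ^ 2 = 1 := Subtype.ext (by simpa [a, b] using hxy)
  have key : ∀ i, a ∈ derivedSeries H i ∧ b ∈ derivedSeries H i := by
    intro i
    induction i with
    | zero => simp
    | succ i ih =>
      set D := derivedSeries H i
      let a' : D := ⟨a, ih.1⟩
      let b' : D := ⟨b, ih.2⟩
      have ha' : a' ^ 3 = 1 := Subtype.ext (by simpa [a'] using ha)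
      have hb' : b' ^ 5 = 1 := Subtype.ext (by simpa [b'] using hb)
      have hab' : (a' * b') ^ 2 = 1 := Subtype.ext (by simpa [a', b'] using hab)
      have qa := congrArg (Abelianization.of (G := D)) ha'
      have qb := congrArg (Abelianization.of (G := D)) hb'
      have qab := congrArg (Abelianization.of (G := D)) hab'
      simp only [map_pow, map_mul, map_one, mul_pow] at qa qb qab
      set A := Abelianization.of a'
      set B := Abelianization.of b'
      have h6 : (A ^ 2 * B ^ 2) ^ 5 = 1 := by rw [qab, one_pow]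
      have hA10 : A ^ 10 = 1 := by
        rwa [mul_pow, ← pow_mul, ← pow_mul, show 2 * 5 = 5 * 2 from rfl, pow_mul B, qb, one_pow,
          mul_one] at h6
      have hA : A = 1 := by
        have : A ^ 10 = A := by rw [show 10 = 3 * 3 + 1 from rfl, pow_succ, pow_mul, qa, one_pow, one_mul]
        rw [← this, hA10]
      rw [hA, one_pow, one_mul] at qab
      have hB : B = 1 := by
        have : B ^ 5 = B := by
          rw [show 5 = 2 * 2 + 1 from rfl, pow_succ, pow_mul, qab, one_pow, one_mul]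
        rw [← this, qb]
      have hmem : ∀ t : D, Abelianization.of t = 1 → (t : H) ∈ derivedSeries H (i + 1) := by
        intro t ht
        have ht' : t ∈ commutator D := Abelianization.ker_of D ▸ ht
        rw [derivedSeries_succ]
        have := Subgroup.mem_map_of_mem D.subtype ht'
        rwa [commutator_def, Subgroup.map_commutator, ← MonoidHom.range_eq_map,
          Subgroup.range_subtype] at this
      exact ⟨hmem a' hA, hmem b' hB⟩
  have := (key n).1
  rw [hn, Subgroup.mem_bot] at this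
  exact hne (congrArg Subtype.val this)

theorem good_of_235 {G : Type*} [Group G] {u w : G} (hr : ∀ e : ℕ, orderOf (u * w) = 3 ^ e → False)
    (y : G) (hy : y ∈ Subgroup.closure ({u, w} : Set G)) (hu : u ^ 3 = 1) (hy5 : y ^ 5 = 1)
    (huy : (u * y) ^ 2 = 1) (hne : u ≠ 1) : Good 3 u w :=
  ⟨fun e he => hr e he,
    not_isSolvable_235 _ (Subgroup.subset_closure (by simp)) hy hu hy5 huy hne⟩

theorem not_three_pow {G : Type*} [Group G] {z : G} {m : ℕ} (hm : z ^ m = 1) (h3 : ¬ 3 ∣ m)
    (hne : z ≠ 1) (e : ℕ) (he : orderOf z = 3 ^ e) : False := by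
  rcases e with _ | e
  · exact hne (orderOf_eq_one_iff.1 (by simpa using he))
  · exact h3 ((dvd_pow_self 3 (by omega)).trans (he ▸ orderOf_dvd_of_pow_eq_one hm))

theorem mem_closure_pair {G : Type*} [Group G] (u w : G) :
    u ∈ Subgroup.closure ({u, w} : Set G) ∧ w ∈ Subgroup.closure ({u, w} : Set G) :=
  ⟨Subgroup.subset_closure (by simp), Subgroup.subset_closure (by simp)⟩

theorem good_five : ∃ q : Perm (Fin 5),
    Good 3 (c[(0 : Fin 5), 1, 2]) (q * c[(0 : Fin 5), 1, 2] * q⁻¹) := by
  refine ⟨Equiv.swap 1 3 * Equiv.swap 2 4, ?_⟩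
  set u : Perm (Fin 5) := c[(0 : Fin 5), 1, 2]
  set w := (Equiv.swap (1 : Fin 5) 3 * Equiv.swap 2 4) * u * (Equiv.swap (1 : Fin 5) 3 * Equiv.swap 2 4)⁻¹
  refine good_of_235 (not_three_pow (m := 5) (by decide +kernel) (by norm_num) (by decide +kernel))
    ((u * w) ^ 2) (pow_mem (mul_mem (mem_closure_pair u w).1 (mem_closure_pair u w).2) 2)
    (by decide +kernel) (by decide +kernel) (by decide +kernel) (by decide +kernel)

theorem good_six_two_two : ∃ q : Perm (Fin 6),
    Good 3 (c[(0 : Fin 6), 1, 2] * c[(3 : Fin 6), 4, 5])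
      (q * (c[(0 : Fin 6), 1, 2] * c[(3 : Fin 6), 4, 5]) * q⁻¹) := by
  refine ⟨Equiv.swap 2 3 * Equiv.swap 4 5, ?_⟩
  set u : Perm (Fin 6) := c[(0 : Fin 6), 1, 2] * c[(3 : Fin 6), 4, 5]
  set w := (Equiv.swap (2 : Fin 6) 3 * Equiv.swap 4 5) * u * (Equiv.swap (2 : Fin 6) 3 * Equiv.swap 4 5)⁻¹
  refine good_of_235 (not_three_pow (m := 5) (by decide +kernel) (by norm_num) (by decide +kernel))
    ((u * w) ^ 2) (pow_mem (mul_mem (mem_closure_pair u w).1 (mem_closure_pair u w).2) 2)
    (by decide +kernel) (by decide +kernel) (by decide +kernel) (by decide +kernel)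

theorem good_six_two_one : ∃ q : Perm (Fin 6),
    Good 3 (c[(0 : Fin 6), 1, 2] * c[(3 : Fin 6), 4, 5]) (q * c[(0 : Fin 6), 1, 2] * q⁻¹) := by
  refine ⟨Equiv.swap 2 3, ?_⟩
  set u : Perm (Fin 6) := c[(0 : Fin 6), 1, 2] * c[(3 : Fin 6), 4, 5]
  set w := Equiv.swap (2 : Fin 6) 3 * c[(0 : Fin 6), 1, 2] * (Equiv.swap (2 : Fin 6) 3)⁻¹
  refine good_of_235 (not_three_pow (m := 4) (by decide +kernel) (by norm_num) (by decide +kernel))
    (w * u * w) (mul_mem (mul_mem (mem_closure_pair u w).2 (mem_closure_pair u w).1)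
      (mem_closure_pair u w).2)
    (by decide +kernel) (by decide +kernel) (by decide +kernel) (by decide +kernel)

end Cfsg.Agent.Perm.CycleProduct
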