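import Cfsg.Agent.Lib.Perm.CycleProduct.Local
import Cfsg.Agent.Lib.Perm.CycleProduct.Small

/-! Conjugates of elements of odd prime power order in alternating groups. -/

set_option autoImplicit false

namespace Cfsg.Agent.Perm.CycleProduct

open Equiv

/-! ### `Good` under homomorphisms -/

theorem Good.of_map {G H : Type*} [Group G] [Group H] {p : ℕ} (hp : p.Prime) (φ : G →* H) {u w : G}
    (h : Good p (φ u) (φ w)) : Good p u w := by
  refine ⟨fun e he => ?_, fun hsol => h.2 ?_⟩
  · have hdvd : orderOf (φ u * φ w) ∣ p ^ e := he ▸ map_mul φ u w ▸ orderOf_map_dvd φ _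
    obtain ⟨j, -, hj⟩ := (Nat.dvd_prime_pow hp).1 hdvd
    exact h.1 j hj
  · haveI : IsSolvable (Subgroup.closure ({u, w} : Set G)) := hsol
    have himg : (Subgroup.closure ({u, w} : Set G)).map φ =
        Subgroup.closure ({φ u, φ w} : Set H) := by
      rw [MonoidHom.map_closure, Set.image_insert_eq, Set.image_singleton]
    rw [← himg]
    exact solvable_of_surjective (φ.subgroupMap_surjective (Subgroup.closure ({u, w} : Set G)))

theorem Good.map {G H : Type*} [Group G] [Group H] {p : ℕ} {φ : G →* H}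
    (hφ : Function.Injective φ) {u w : G} (h : Good p u w) : Good p (φ u) (φ w) := by
  refine ⟨fun e he => h.1 e (by rwa [← map_mul, orderOf_injective φ hφ] at he), fun hsol => h.2 ?_⟩
  have himg : (Subgroup.closure ({u, w} : Set G)).map φ =
      Subgroup.closure ({φ u, φ w} : Set H) := by
    rw [MonoidHom.map_closure, Set.image_insert_eq, Set.image_singleton]
  rw [← himg] at hsol
  haveI : IsSolvable ((Subgroup.closure ({u, w} : Set G)).map φ) := hsol
  let eq := Subgroup.equivMapOfInjective (Subgroup.closure ({u, w} : Set G)) φ hφ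
  exact solvable_of_surjective (f := eq.symm.toMonoidHom) eq.symm.surjective

theorem Good.symm {G : Type*} [Group G] {p : ℕ} (hp : p.Prime) {u w g : G}
    (h : Good p w (g * u * g⁻¹)) : Good p u (g⁻¹ * w * g) := by
  refine Good.of_map hp (MulAut.conj g).toMonoidHom ?_
  simp only [MulEquiv.coe_toMonoidHom, MulAut.conj_apply]
  rw [show g * (g⁻¹ * w * g) * g⁻¹ = w by group]
  refine ⟨fun e he => h.1 e ?_, ?_⟩
  · rw [← he]
    set u' := g * u * g⁻¹
    rw [show w * u' = MulAut.conj w (u' * w) by simp [mul_assoc]]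
    exact orderOf_injective (MulAut.conj w).toMonoidHom (MulAut.conj w).injective _
  · rw [Set.pair_comm]; exact h.2

theorem cycleType_permCongr {β γ : Type*} [Fintype β] [DecidableEq β] [Fintype γ] [DecidableEq γ]
    (e : β ≃ γ) (g : Perm β) : (e.permCongr g).cycleType = g.cycleType := by
  have h : e.permCongr g = g.extendDomain
      (e.trans (Equiv.subtypeUnivEquiv (p := fun _ : γ => True) fun _ => trivial).symm) := by
    ext x
    rw [Perm.extendDomain_apply_subtype _ _ trivial]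
    rfl
  rw [h, Perm.cycleType_extendDomain]

variable {α : Type*} [Fintype α] [DecidableEq α] {p : ℕ}

/-! ### Invariant sets -/

/-- The permutations preserving a set. -/
def preserving (Δ : Finset α) : Subgroup (Perm α) where
  carrier := {g | ∀ x, g x ∈ Δ ↔ x ∈ Δ}
  one_mem' := fun x => Iff.rfl
  mul_mem' := fun {g h} hg hh x => (hg (h x)).trans (hh x)
  inv_mem' := fun {g} hg x => by simpa using (hg (g⁻¹ x)).symm

theorem mem_preserving {Δ : Finset α} {g : Perm α} :
    g ∈ preserving Δ ↔ ∀ x, g x ∈ Δ ↔ x ∈ Δ := Iff.rfl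

/-- Restriction to an invariant set. -/
def restrict (Δ : Finset α) : preserving Δ →* Perm {x // x ∈ Δ} where
  toFun g := (g : Perm α).subtypePerm g.2
  map_one' := by ext; rfl
  map_mul' g h := by ext; rfl

theorem restrict_apply (Δ : Finset α) (g : preserving Δ) (x : {x // x ∈ Δ}) :
    (restrict Δ g x : α) = (g : Perm α) x := rfl

theorem mem_preserving_of_maps {Δ : Finset α} {g : Perm α} (h : ∀ x ∈ Δ, g x ∈ Δ) :
    g ∈ preserving Δ := by
  intro x
  refine ⟨fun hx => ?_, h x⟩
  have himg : Δ.image g = Δ := Finset.eq_of_subset_of_card_le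
    (Finset.image_subset_iff.2 h) (by rw [Finset.card_image_of_injective _ g.injective])
  rw [← himg, Finset.mem_image] at hx
  obtain ⟨y, hy, hyx⟩ := hx
  exact g.injective hyx ▸ hy

theorem exists_map_finset {E Δ : Finset α} (h : E.card = Δ.card) :
    ∃ f : Perm α, ∀ x, f x ∈ Δ ↔ x ∈ E := by
  have e : {x // x ∈ E} ≃ {x // x ∈ Δ} := Fintype.equivOfCardEq (by simp [h])
  refine ⟨e.extendSubtype, fun x => ⟨fun hx => ?_, fun hx => e.extendSubtype_mem x hx⟩⟩
  by_contra hne
  exact e.extendSubtype_not_mem x hne hx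

/-- A solution on invariant sets gives a solution. -/
theorem exists_of_local (hp : p.Prime) {Δ E : Finset α} (hcard : E.card = Δ.card)
    (u w : Perm α) (hu : u ∈ preserving Δ) (hw : w ∈ preserving E) :
    ∃ f : Perm α, ∃ w₁ : Perm {x // x ∈ Δ}, w₁.cycleType = (restrict E ⟨w, hw⟩).cycleType ∧
      ∀ q : Perm {x // x ∈ Δ}, Good p (restrict Δ ⟨u, hu⟩) (q * w₁ * q⁻¹) →
        Good p u ((Perm.ofSubtype q * f) * w * (Perm.ofSubtype q * f)⁻¹) ∧
        ∀ s : Perm α, (∀ x ∈ Δ, s x = x) →
          Good p u ((s * Perm.ofSubtype q * f) * w * (s * Perm.ofSubtype q * f)⁻¹) := by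
  obtain ⟨f, hf⟩ := exists_map_finset hcard
  have hw' : f * w * f⁻¹ ∈ preserving Δ := by
    intro x
    rw [Perm.mul_apply, Perm.mul_apply, hf, mem_preserving.1 hw, ← hf]
    simp
  refine ⟨f, restrict Δ ⟨f * w * f⁻¹, hw'⟩, ?_, ?_⟩
  · let e : {x // x ∈ E} ≃ {x // x ∈ Δ} := f.subtypeEquiv fun x => (hf x).symm
    have : restrict Δ ⟨f * w * f⁻¹, hw'⟩ = e.permCongr (restrict E ⟨w, hw⟩) := by
      ext x
      rfl
    rw [this]
    exact cycleType_permCongr e _
  intro q hq
  have key : ∀ s : Perm α, (∀ x ∈ Δ, s x = x) →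
      Good p u ((s * Perm.ofSubtype q * f) * w * (s * Perm.ofSubtype q * f)⁻¹) := by
    intro s hs
    have hsp : s ∈ preserving Δ := mem_preserving_of_maps fun x hx => (hs x hx).symm ▸ hx
    have hqp : Perm.ofSubtype q ∈ preserving Δ := mem_preserving_of_maps fun x hx => by
      rw [show x = ((⟨x, hx⟩ : {x // x ∈ Δ}) : α) from rfl, Perm.ofSubtype_apply_coe]
      exact (q ⟨x, hx⟩).2
    let S : preserving Δ := ⟨s, hsp⟩
    let Q : preserving Δ := ⟨Perm.ofSubtype q, hqp⟩
    let W : preserving Δ := ⟨f * w * f⁻¹, hw'⟩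
    have hS : restrict Δ S = 1 := by
      ext x; rw [restrict_apply]; exact hs x x.2
    have hQ : restrict Δ Q = q := by
      ext x; rw [restrict_apply]; exact Perm.ofSubtype_apply_coe q x
    have hg : Good p (⟨u, hu⟩ : preserving Δ) (S * Q * W * (S * Q)⁻¹) := by
      refine Good.of_map hp (restrict Δ) ?_
      rw [map_mul, map_mul, map_inv, map_mul, hS, hQ, one_mul]
      exact hq
    have := Good.map (φ := (preserving Δ).subtype) (Subgroup.subtype_injective _) hg
    rw [show (s * Perm.ofSubtype q * f) * w * (s * Perm.ofSubtype q * f)⁻¹ =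
      (s * Perm.ofSubtype q) * (f * w * f⁻¹) * (s * Perm.ofSubtype q)⁻¹ by group]
    simpa [S, Q, W] using this
  refine ⟨?_, key⟩
  have := key 1 fun x _ => rfl
  simpa using this

theorem parts_dvd {σ : Perm α} {N : ℕ} (h : orderOf σ ∣ N) {s : ℕ} (hs : s ∈ σ.cycleType) : s ∣ N :=
  (Multiset.dvd_lcm hs).trans ((Perm.lcm_cycleType σ).symm ▸ h)

theorem parts_pow (hp : p.Prime) {σ : Perm α} {e : ℕ} (h : orderOf σ ∣ p ^ e) {s : ℕ}
    (hs : s ∈ σ.cycleType) : ∃ i, s = p ^ i := by
  obtain ⟨i, -, hi⟩ := (Nat.dvd_prime_pow hp).1 (parts_dvd h hs)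
  exact ⟨i, hi⟩

theorem preserving_cycle {σ c : Perm α} (hc : c ∈ σ.cycleFactorsFinset) :
    σ ∈ preserving c.support := by
  apply mem_preserving_of_maps
  intro x hx
  rw [← (Perm.mem_cycleFactorsFinset_iff.1 hc).2 x hx]
  exact Perm.apply_mem_support.2 hx

/-- Choice of cycles with a prescribed total length. -/
theorem exists_subsum {ι : Type*} [DecidableEq ι] (hp : p.Prime) (f : ι → ℕ) :
    ∀ (F : Finset ι), (∀ i ∈ F, ∃ j, f i = p ^ j) → ∀ R : ℕ, (∀ i ∈ F, f i ∣ R) →
      ∃ S ⊆ F, ∑ i ∈ S, f i = min (∑ i ∈ F, f i) R := by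
  intro F
  induction F using Finset.strongInduction with
  | H F ih =>
    intro hF R hR
    rcases F.eq_empty_or_nonempty with rfl | hne
    · exact ⟨∅, subset_rfl, by simp⟩
    rcases Nat.eq_zero_or_pos R with rfl | hRpos
    · exact ⟨∅, Finset.empty_subset _, by simp⟩
    obtain ⟨i, hi, hmax⟩ := Finset.exists_max_image F f hne
    have hle : f i ≤ R := Nat.le_of_dvd hRpos (hR i hi)
    obtain ⟨S, hS, hsum⟩ := ih (F.erase i) (Finset.erase_ssubset hi)
      (fun j hj => hF j (Finset.mem_of_mem_erase hj)) (R - f i) (fun j hj => by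
        have hjF := Finset.mem_of_mem_erase hj
        refine Nat.dvd_sub (hR j hjF) ?_
        obtain ⟨a, ha⟩ := hF j hjF
        obtain ⟨b, hb⟩ := hF i hi
        have := hmax j hjF
        rw [ha, hb] at this ⊢
        exact pow_dvd_pow p ((Nat.pow_le_pow_iff_right hp.one_lt).1 this))
    refine ⟨insert i S, ?_, ?_⟩
    · rw [Finset.insert_subset_iff]
      exact ⟨hi, hS.trans (Finset.erase_subset _ _)⟩
    · rw [Finset.sum_insert (fun h => Finset.notMem_erase i F (hS h)), hsum,
        ← Finset.add_sum_erase _ _ hi]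
      omega

theorem exists_invariant (hp : p.Prime) {w : Perm α} (hw : w ≠ 1) {a : ℕ}
    (hparts : ∀ s ∈ w.cycleType, ∃ i, s = p ^ i ∧ i ≤ a) (hk : p ^ a ≤ Fintype.card α) :
    ∃ E : Finset α, E.card = p ^ a ∧ w ∈ preserving E ∧ ∃ x ∈ E, w x ≠ x := by
  classical
  set F := w.cycleFactorsFinset with hF
  have hf : ∀ c ∈ F, ∃ i, c.support.card = p ^ i ∧ i ≤ a := fun c hc =>
    hparts _ (by rw [Perm.cycleType_def]; exact Multiset.mem_map_of_mem _ hc)
  obtain ⟨S, hS, hsum⟩ := exists_subsum hp (fun c : Perm α => c.support.card) F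
    (fun c hc => by obtain ⟨i, hi, -⟩ := hf c hc; exact ⟨i, hi⟩) (p ^ a)
    (fun c hc => by obtain ⟨i, hi, hia⟩ := hf c hc; rw [hi]; exact pow_dvd_pow p hia)
  have hdisj : ∀ T ⊆ F, (T.biUnion Perm.support).card = ∑ c ∈ T, c.support.card := by
    intro T hT
    refine Finset.card_biUnion fun c hc d hd hcd => ?_
    exact Perm.disjoint_iff_disjoint_support.1
      (Perm.cycleFactorsFinset_pairwise_disjoint w (hT hc) (hT hd) hcd)
  have hFsupp : F.biUnion Perm.support = w.support := by
    ext x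
    simp only [Finset.mem_biUnion, hF]
    constructor
    · rintro ⟨c, hc, hx⟩; exact Perm.mem_cycleFactorsFinset_support_le hc hx
    · intro hx
      exact ⟨w.cycleOf x, Perm.cycleOf_mem_cycleFactorsFinset_iff.2 hx,
        Perm.mem_support_cycleOf_iff.2 ⟨Perm.SameCycle.refl _ _, hx⟩⟩
  have hpos : 0 < w.support.card :=
    Finset.card_pos.2 (Finset.nonempty_iff_ne_empty.2 fun h => hw (Perm.support_eq_empty_iff.1 h))
  rw [← hdisj S hS, ← hdisj F subset_rfl, hFsupp] at hsum
  by_cases hle : w.support.card ≤ p ^ a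
  · obtain ⟨E, hE1, hE2⟩ := Finset.exists_superset_card_eq hle hk
    obtain ⟨x, hx⟩ := Finset.card_pos.1 hpos
    refine ⟨E, hE2, mem_preserving_of_maps fun y hy => ?_, x, hE1 hx, Perm.mem_support.1 hx⟩
    by_cases hwy : w y = y
    · rwa [hwy]
    · exact hE1 (Perm.apply_mem_support.2 (Perm.mem_support.2 hwy))
  · rw [min_eq_right (by omega)] at hsum
    refine ⟨S.biUnion Perm.support, hsum, mem_preserving_of_maps fun y hy => ?_, ?_⟩
    · simp only [Finset.mem_biUnion] at hy ⊢
      obtain ⟨c, hc, hyc⟩ := hy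
      refine ⟨c, hc, ?_⟩
      rw [← (Perm.mem_cycleFactorsFinset_iff.1 (hS hc)).2 y hyc]
      exact Perm.apply_mem_support.2 hyc
    · obtain ⟨x, hx⟩ := Finset.card_pos.1 (hsum ▸ Nat.pow_pos hp.pos :
        0 < (S.biUnion Perm.support).card)
      refine ⟨x, hx, ?_⟩
      simp only [Finset.mem_biUnion] at hx
      obtain ⟨c, hc, hxc⟩ := hx
      exact Perm.mem_support.1 (Perm.mem_cycleFactorsFinset_support_le (hS hc) hxc)

theorem exists_conj_big (hp : p.Prime) (hp3 : 3 ≤ p) {u w : Perm α} (hw : w ≠ 1) {e : ℕ}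
    (hwo : orderOf w ∣ p ^ e) {c : Perm α} (hc : c ∈ u.cycleFactorsFinset) {a : ℕ}
    (hca : c.support.card = p ^ a) (h5 : 5 ≤ p ^ a) (hwle : ∀ s ∈ w.cycleType, s ≤ p ^ a) :
    ∃ g : Perm α, Perm.sign g = 1 ∧ Good p u (g * w * g⁻¹) := by
  classical
  set Δ := c.support with hΔ
  have hk : p ^ a ≤ Fintype.card α := hca ▸ Finset.card_le_univ _
  obtain ⟨E, hE, hwE, x, hxE, hwx⟩ := exists_invariant hp hw (a := a) (fun s hs => by
    obtain ⟨i, hi⟩ := parts_pow hp hwo hs
    exact ⟨i, hi, (Nat.pow_le_pow_iff_right hp.one_lt).1 (hi ▸ hwle s hs)⟩) hk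
  have huΔ : u ∈ preserving Δ := preserving_cycle hc
  obtain ⟨f, w₁, hct, hgood⟩ := exists_of_local hp (hE.trans hca.symm) u w huΔ hwE
  set u₁ := restrict Δ ⟨u, huΔ⟩ with hu₁
  have hcyc := (Perm.mem_cycleFactorsFinset_iff.1 hc)
  have hof : Perm.ofSubtype u₁ = c := by
    ext y
    by_cases hy : y ∈ Δ
    · rw [show y = ((⟨y, hy⟩ : {x // x ∈ Δ}) : α) from rfl, Perm.ofSubtype_apply_coe, hu₁,
        restrict_apply]
      exact (hcyc.2 y hy).symm
    · rw [Perm.ofSubtype_apply_of_not_mem _ hy]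
      exact (Perm.notMem_support.1 hy).symm
  have hcardΔ : Fintype.card {x // x ∈ Δ} = p ^ a := by rw [Fintype.card_coe, hca]
  have hu₁ct : u₁.cycleType = {p ^ a} := by
    rw [← Perm.cycleType_ofSubtype, hof, hcyc.1.cycleType, hca]
  have hu₁c : u₁.IsCycle := Perm.card_cycleType_eq_one.1 (by rw [hu₁ct]; rfl)
  have hu₁f : u₁.support = Finset.univ := by
    apply Finset.eq_univ_of_card
    rw [← Perm.sum_cycleType, hu₁ct, Multiset.sum_singleton, hcardΔ]
  set w₀ := restrict E ⟨w, hwE⟩ with hw₀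
  have hw₀ne : w₀ ≠ 1 := fun h => hwx (by
    have := congrArg (fun σ : Perm {x // x ∈ E} => (σ ⟨x, hxE⟩ : α)) h
    simpa [w₀, restrict_apply] using this)
  have hord : orderOf w₀ ∣ p ^ e :=
    (orderOf_map_dvd (restrict E) ⟨w, hwE⟩).trans (by rwa [← Subgroup.orderOf_coe])
  have hw₁ne : w₁ ≠ 1 := fun h => hw₀ne (by
    rw [← Perm.cycleType_eq_zero, ← hct, h, Perm.cycleType_one])
  obtain ⟨q, hq⟩ := exists_good_gen hp hp3 hu₁c hu₁f hcardΔ (by omega) hw₁ne
    fun s hs => parts_pow hp hord (hct ▸ hs)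
  obtain ⟨hgq, hgs⟩ := hgood q hq
  rcases Int.units_eq_one_or (Perm.sign (Perm.ofSubtype q * f)) with hs | hs
  · exact ⟨_, hs, hgq⟩
  -- fix the parity
  by_cases hroom : p ^ a + 2 ≤ Fintype.card α
  · have hcompl : 1 < Δᶜ.card := by rw [Finset.card_compl, hca]; omega
    obtain ⟨y, hy, z, hz, hyz⟩ := Finset.one_lt_card.1 hcompl
    rw [Finset.mem_compl] at hy hz
    refine ⟨Equiv.swap y z * Perm.ofSubtype q * f, ?_,
      hgs _ fun t ht => Equiv.swap_apply_of_ne_of_ne (fun h => hy (h ▸ ht)) (fun h => hz (h ▸ ht))⟩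
    rw [mul_assoc, map_mul, hs, Perm.sign_swap hyz]
    decide
  by_cases hcent : Subgroup.centralizer ({w} : Set (Perm α)) ≤ alternatingGroup α
  swap
  · obtain ⟨z, hzc, hzA⟩ := SetLike.not_le_iff_exists.1 hcent
    refine ⟨Perm.ofSubtype q * f * z, ?_, ?_⟩
    · rw [map_mul, hs]
      rcases Int.units_eq_one_or (Perm.sign z) with h | h
      · exact absurd (Equiv.Perm.mem_alternatingGroup.2 h) hzA
      · rw [h]; decide
    · have hz' : z * w * z⁻¹ = w := by
        rw [Subgroup.mem_centralizer_singleton_iff.1 hzc, mul_inv_cancel_right]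
      rwa [show Perm.ofSubtype q * f * z * w * (Perm.ofSubtype q * f * z)⁻¹ =
        Perm.ofSubtype q * f * (z * w * z⁻¹) * (Perm.ofSubtype q * f)⁻¹ by group, hz']
  -- now `w` is a single cycle of length `p ^ a`
  obtain ⟨-, hsum, hcount⟩ := (Equiv.Perm.centralizer_le_alternating_iff).1 hcent
  have hnodup : w.cycleType.Nodup := Multiset.nodup_iff_count_le_one.2 hcount
  have hmem : p ^ a ∈ w.cycleType := by
    by_contra hnm
    have hsub : w.cycleType.toFinset ⊆ (Finset.range a).image (p ^ ·) := by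
      intro s hs'
      rw [Multiset.mem_toFinset] at hs'
      obtain ⟨i, hi⟩ := parts_pow hp hwo hs'
      refine Finset.mem_image.2 ⟨i, Finset.mem_range.2 ?_, hi.symm⟩
      rcases ((Nat.pow_le_pow_iff_right hp.one_lt).1 (hi ▸ hwle s hs')).lt_or_eq with h | h
      · exact h
      · exact absurd (h ▸ hi ▸ hs') hnm
    have h1 : w.cycleType.sum ≤ ∑ i ∈ Finset.range a, p ^ i := by
      have h2 := Finset.sum_le_sum_of_subset (f := fun s : ℕ => s) hsub
      rw [Finset.sum_image (fun i _ j _ h => Nat.pow_right_injective hp.two_le h)] at h2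
      refine le_trans (le_of_eq ?_) h2
      conv_lhs => rw [← Multiset.dedup_eq_self.2 hnodup]
      simp [Finset.sum, Multiset.toFinset_val]
    have h3 : ∀ b : ℕ, 2 * (∑ i ∈ Finset.range b, p ^ i) + 1 ≤ p ^ b := by
      intro b
      induction b with
      | zero => simp
      | succ b ih =>
        rw [Finset.sum_range_succ, pow_succ]
        have := Nat.mul_le_mul_left (p ^ b) hp3
        omega
    have h4 := h3 a
    omega
  have hwct : w.cycleType = {p ^ a} := by
    rw [← Multiset.cons_erase hmem]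
    by_contra hne
    obtain ⟨s, hs'⟩ := Multiset.exists_mem_of_ne_zero (s := w.cycleType.erase (p ^ a))
      (fun h => hne (by rw [h]; rfl))
    have h1 := Multiset.le_sum_of_mem hs'
    have h2 := Perm.two_le_of_mem_cycleType (Multiset.mem_of_mem_erase hs')
    have h3 : p ^ a + (w.cycleType.erase (p ^ a)).sum = w.cycleType.sum := by
      rw [← Multiset.sum_cons, Multiset.cons_erase hmem]
    have h4 : w.cycleType.sum ≤ Fintype.card α := by
      rw [Perm.sum_cycleType]; exact Finset.card_le_univ _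
    omega
  have hwc : w.IsCycle := Perm.card_cycleType_eq_one.1 (by rw [hwct]; rfl)
  have hEsupp : E = w.support := by
    refine (Finset.eq_of_subset_of_card_le (fun y hy => ?_) ?_).symm
    · obtain ⟨i, hi⟩ := hwc.exists_zpow_eq hwx (Perm.mem_support.1 hy)
      rw [← hi]
      exact ((zpow_mem hwE i) x).2 hxE
    · rw [hE, ← Perm.sum_cycleType, hwct, Multiset.sum_singleton]
  have hof' : Perm.ofSubtype w₀ = w := by
    ext y
    by_cases hy : y ∈ E
    · rw [show y = ((⟨y, hy⟩ : {x // x ∈ E}) : α) from rfl, Perm.ofSubtype_apply_coe, hw₀,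
        restrict_apply]
    · rw [Perm.ofSubtype_apply_of_not_mem _ hy]
      exact (Perm.notMem_support.1 (hEsupp ▸ hy)).symm
  have hw₁ct : w₁.cycleType = {p ^ a} := by
    rw [hct, ← Perm.cycleType_ofSubtype, hof', hwct]
  have hw₁f : w₁.support = Finset.univ := by
    apply Finset.eq_univ_of_card
    rw [← Perm.sum_cycleType, hw₁ct, Multiset.sum_singleton, hcardΔ]
  obtain ⟨q', hq's, hq'⟩ := exists_good_sign hp hp3 hu₁c hu₁f hcardΔ (by omega)
    (Perm.card_cycleType_eq_one.1 (by rw [hw₁ct]; rfl)) hw₁f (Perm.sign f)⁻¹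
  refine ⟨_, ?_, (hgood q' hq').1⟩
  rw [map_mul, Perm.sign_ofSubtype, hq's, inv_mul_cancel]

theorem conj_transfer (hp : p.Prime) {β γ : Type*} [Fintype β] [DecidableEq β] [Fintype γ]
    [DecidableEq γ] (hcard : Fintype.card γ = Fintype.card β) {u0 w0 : Perm γ} {u w : Perm β}
    (hu : u0.cycleType = u.cycleType) (hw : w0.cycleType = w.cycleType)
    (h : ∃ q, Good p u0 (q * w0 * q⁻¹)) : ∃ q, Good p u (q * w * q⁻¹) := by
  have _ := hp
  obtain ⟨e⟩ : Nonempty (γ ≃ β) := Fintype.card_eq.1 hcard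
  obtain ⟨q, hq⟩ := h
  have h1 := Good.map (φ := e.permCongrHom.toMonoidHom) e.permCongrHom.injective hq
  simp only [MulEquiv.coe_toMonoidHom, map_mul, map_inv] at h1
  have hu' : (e.permCongrHom u0).cycleType = u.cycleType := by
    rw [← hu]; exact cycleType_permCongr e u0
  have hw' : (e.permCongrHom w0).cycleType = w.cycleType := by
    rw [← hw]; exact cycleType_permCongr e w0
  obtain ⟨a, ha⟩ := isConj_iff.1 (Perm.isConj_iff_cycleType_eq.2 hu')
  obtain ⟨b, hb⟩ := isConj_iff.1 (Perm.isConj_iff_cycleType_eq.2 hw')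
  refine ⟨a * e.permCongrHom q * b⁻¹, ?_⟩
  have h2 := Good.map (φ := (MulAut.conj a).toMonoidHom) (MulAut.conj a).injective h1
  simp only [MulEquiv.coe_toMonoidHom, MulAut.conj_apply, ha] at h2
  rwa [← hb, show a * e.permCongrHom q * b⁻¹ * (b * e.permCongrHom w0 * b⁻¹) *
    (a * e.permCongrHom q * b⁻¹)⁻¹ =
      a * (e.permCongrHom q * e.permCongrHom w0 * (e.permCongrHom q)⁻¹) * a⁻¹ by group]

/-- An invariant set with `i` three-cycles and `j` fixed points. -/
theorem exists_three_set {σ : Perm α} (h3 : ∀ s ∈ σ.cycleType, s = 3) {i j : ℕ}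
    (hi : 3 * i ≤ σ.support.card) (hj : j + σ.support.card ≤ Fintype.card α) :
    ∃ (E : Finset α) (h : σ ∈ preserving E), E.card = 3 * i + j ∧
      (restrict E ⟨σ, h⟩).cycleType = Multiset.replicate i 3 := by
  classical
  have hFc : ∀ c ∈ σ.cycleFactorsFinset, c.support.card = 3 := fun c hc =>
    h3 _ (by rw [Perm.cycleType_def]; exact Multiset.mem_map_of_mem _ hc)
  have hsupp : σ.support.card = 3 * σ.cycleFactorsFinset.card := by
    rw [← Perm.sum_cycleType, Multiset.eq_replicate_card.2 h3, Multiset.sum_replicate,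
      Perm.cycleType_def, Multiset.card_map]
    simp [mul_comm]
  obtain ⟨S, hS, hScard⟩ := Finset.exists_subset_card_eq (s := σ.cycleFactorsFinset) (n := i)
    (by omega)
  obtain ⟨J, hJ, hJcard⟩ := Finset.exists_subset_card_eq (s := σ.supportᶜ) (n := j)
    (by rw [Finset.card_compl]; omega)
  have hU : (S.biUnion Perm.support).card = 3 * i := by
    rw [Finset.card_biUnion fun c hc d hd hcd => Perm.disjoint_iff_disjoint_support.1
      (Perm.cycleFactorsFinset_pairwise_disjoint σ (hS hc) (hS hd) hcd),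
      Finset.sum_const_nat fun c hc => hFc c (hS hc), hScard, mul_comm]
  have hUsub : S.biUnion Perm.support ⊆ σ.support :=
    Finset.biUnion_subset.2 fun c hc => Perm.mem_cycleFactorsFinset_support_le (hS hc)
  set E := S.biUnion Perm.support ∪ J with hE
  have hmem : σ ∈ preserving E := mem_preserving_of_maps fun y hy => by
    rw [hE, Finset.mem_union] at hy ⊢
    rcases hy with hy | hy
    · left
      simp only [Finset.mem_biUnion] at hy ⊢
      obtain ⟨c, hc, hyc⟩ := hy
      refine ⟨c, hc, ?_⟩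
      rw [← (Perm.mem_cycleFactorsFinset_iff.1 (hS hc)).2 y hyc]
      exact Perm.apply_mem_support.2 hyc
    · right
      rwa [Perm.notMem_support.1 (Finset.mem_compl.1 (hJ hy))]
  refine ⟨E, hmem, ?_, ?_⟩
  · rw [hE, Finset.card_union_of_disjoint, hU, hJcard]
    exact Finset.disjoint_left.2 fun y hy hy' => Finset.mem_compl.1 (hJ hy') (hUsub hy)
  set τ := restrict E ⟨σ, hmem⟩ with hτ
  have hpow : σ ^ 3 = 1 := by
    rw [← orderOf_dvd_iff_pow_eq_one, ← Perm.lcm_cycleType]
    exact Multiset.lcm_dvd.2 fun s hs => (h3 s hs).symm ▸ dvd_rfl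
  have hparts : ∀ s ∈ τ.cycleType, s = 3 := by
    intro s hs
    have hd : orderOf τ ∣ 3 ^ 1 := by
      rw [pow_one, orderOf_dvd_iff_pow_eq_one, hτ, ← map_pow,
        show (⟨σ, hmem⟩ : preserving E) ^ 3 = 1 from Subtype.ext (by simpa using hpow), map_one]
    have h2 := Perm.two_le_of_mem_cycleType hs
    rcases (Nat.dvd_prime Nat.prime_three).1 (by simpa using parts_dvd hd hs) with h | h <;> omega
  have hτs : τ.support.card = 3 * i := by
    rw [← hU, ← Finset.card_map (Function.Embedding.subtype _)]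
    congr 1
    ext y
    simp only [Finset.mem_map, Perm.mem_support, Function.Embedding.subtype_apply]
    constructor
    · rintro ⟨⟨z, hz⟩, hne, rfl⟩
      rcases Finset.mem_union.1 hz with h | h
      · exact h
      · refine absurd (Subtype.ext ?_) hne
        exact Perm.notMem_support.1 (Finset.mem_compl.1 (hJ h))
    · intro hy
      exact ⟨⟨y, Finset.mem_union_left _ hy⟩,
        fun h => Perm.mem_support.1 (hUsub hy) (congrArg Subtype.val h), rfl⟩
  rw [Multiset.eq_replicate]
  refine ⟨?_, hparts⟩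
  have := Perm.sum_cycleType τ
  rw [Multiset.eq_replicate_card.2 hparts, Multiset.sum_replicate, smul_eq_mul, hτs] at this
  omega

theorem exists_conj_three {u w : Perm α} (hn : 5 ≤ Fintype.card α) (hu : u ≠ 1) (hw : w ≠ 1)
    (hu3 : ∀ s ∈ u.cycleType, s = 3) (hw3 : ∀ s ∈ w.cycleType, s = 3) :
    (∃ g : Perm α, Perm.sign g = 1 ∧ Good 3 u (g * w * g⁻¹)) ∨
      ∃ g : Perm α, Perm.sign g = 1 ∧ Good 3 w (g * u * g⁻¹) := by
  classical
  have hmult : ∀ σ : Perm α, σ ≠ 1 → (∀ s ∈ σ.cycleType, s = 3) →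
      3 ≤ σ.support.card ∧ 3 ∣ σ.support.card ∧
        ¬ Subgroup.centralizer ({σ} : Set (Perm α)) ≤ alternatingGroup α := by
    intro σ hne h3
    have hrep := Multiset.eq_replicate_card.2 h3
    have hs := Perm.sum_cycleType σ
    rw [hrep, Multiset.sum_replicate, smul_eq_mul] at hs
    have hpos : 0 < Multiset.card σ.cycleType := Perm.card_cycleType_pos.2 hne
    refine ⟨by omega, ⟨Multiset.card σ.cycleType, by omega⟩, fun h => ?_⟩
    obtain ⟨-, h1, h2⟩ := Equiv.Perm.centralizer_le_alternating_iff.1 h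
    have hc := h2 3
    rw [hrep, Multiset.count_replicate_self] at hc
    rw [hrep, Multiset.sum_replicate, smul_eq_mul] at h1
    omega
  -- a solution on invariant sets, with any parity
  have main : ∀ (u w : Perm α), w ≠ 1 → (∀ s ∈ u.cycleType, s = 3) → (∀ s ∈ w.cycleType, s = 3) →
      ∀ i j i' j' : ℕ, 3 * i ≤ u.support.card → j + u.support.card ≤ Fintype.card α →
      3 * i' ≤ w.support.card → j' + w.support.card ≤ Fintype.card α → 3 * i + j = 3 * i' + j' →
      (∀ (β : Type) [Fintype β] [DecidableEq β] (a b : Perm β), Fintype.card β = 3 * i + j →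
        a.cycleType = Multiset.replicate i 3 → b.cycleType = Multiset.replicate i' 3 →
        ∃ q, Good 3 a (q * b * q⁻¹)) →
      ∃ g : Perm α, Perm.sign g = 1 ∧ Good 3 u (g * w * g⁻¹) := by
    intro u w hwne hu3 hw3 i j i' j' hi hj hi' hj' heq hloc
    obtain ⟨Δ, huΔ, hΔ, hΔt⟩ := exists_three_set hu3 hi hj
    obtain ⟨E, hwE, hE, hEt⟩ := exists_three_set hw3 hi' hj'
    obtain ⟨f, w₁, hct, hgood⟩ := exists_of_local Nat.prime_three (by omega : E.card = Δ.card) u w
      huΔ hwE
    have eq0 : Fintype.card {x // x ∈ Δ} = 3 * i + j := by rw [Fintype.card_coe, hΔ]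
    let e : Fin (Fintype.card {x // x ∈ Δ}) ≃ {x // x ∈ Δ} := (Fintype.equivFin _).symm
    obtain ⟨q, hq⟩ : ∃ q, Good 3 (restrict Δ ⟨u, huΔ⟩) (q * w₁ * q⁻¹) := by
      refine conj_transfer Nat.prime_three (γ := Fin (Fintype.card {x // x ∈ Δ})) (by simp)
        (u0 := e.symm.permCongr (restrict Δ ⟨u, huΔ⟩)) (w0 := e.symm.permCongr w₁)
        (cycleType_permCongr _ _) (cycleType_permCongr _ _) ?_
      exact hloc _ _ _ (by simp [eq0]) ((cycleType_permCongr _ _).trans hΔt)
        ((cycleType_permCongr _ _).trans (hct.trans hEt))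
    obtain ⟨z, hzc, hzA⟩ := SetLike.not_le_iff_exists.1 (hmult w hwne hw3).2.2
    rcases Int.units_eq_one_or (Perm.sign (Perm.ofSubtype q * f)) with hs | hs
    · exact ⟨_, hs, (hgood q hq).1⟩
    · refine ⟨Perm.ofSubtype q * f * z, ?_, ?_⟩
      · rw [map_mul, hs]
        rcases Int.units_eq_one_or (Perm.sign z) with h | h
        · exact absurd (Equiv.Perm.mem_alternatingGroup.2 h) hzA
        · rw [h]; decide
      · have hz' : z * w * z⁻¹ = w := by
          rw [Subgroup.mem_centralizer_singleton_iff.1 hzc, mul_inv_cancel_right]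
        rw [show Perm.ofSubtype q * f * z * w * (Perm.ofSubtype q * f * z)⁻¹ =
          Perm.ofSubtype q * f * (z * w * z⁻¹) * (Perm.ofSubtype q * f)⁻¹ by group, hz']
        exact (hgood q hq).1
  obtain ⟨hu1, hu2, -⟩ := hmult u hu hu3
  obtain ⟨hw1, hw2, -⟩ := hmult w hw hw3
  have huc := Finset.card_le_univ u.support
  have hwc := Finset.card_le_univ w.support
  by_cases h5 : u.support.card + 2 ≤ Fintype.card α ∧ w.support.card + 2 ≤ Fintype.card α
  · refine Or.inl (main u w hw hu3 hw3 1 2 1 2 (by omega) (by omega) (by omega) (by omega) rfl ?_)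
    intro β _ _ a b hβ ha hb
    exact conj_transfer Nat.prime_three (γ := Fin 5) (by simp [hβ]) (u0 := c[(0 : Fin 5), 1, 2])
      (w0 := c[(0 : Fin 5), 1, 2]) (by rw [ha]; decide +kernel) (by rw [hb]; decide +kernel) good_five
  by_cases hboth : 6 ≤ u.support.card ∧ 6 ≤ w.support.card
  · refine Or.inl (main u w hw hu3 hw3 2 0 2 0 (by omega) (by omega) (by omega) (by omega) rfl ?_)
    intro β _ _ a b hβ ha hb
    exact conj_transfer Nat.prime_three (γ := Fin 6) (by simp [hβ])
      (u0 := c[(0 : Fin 6), 1, 2] * c[(3 : Fin 6), 4, 5])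
      (w0 := c[(0 : Fin 6), 1, 2] * c[(3 : Fin 6), 4, 5])
      (by rw [ha]; decide +kernel) (by rw [hb]; decide +kernel) good_six_two_two
  have hloc : ∀ (β : Type) [Fintype β] [DecidableEq β] (a b : Perm β), Fintype.card β = 3 * 2 + 0 →
      a.cycleType = Multiset.replicate 2 3 → b.cycleType = Multiset.replicate 1 3 →
      ∃ q, Good 3 a (q * b * q⁻¹) := by
    intro β _ _ a b hβ ha hb
    refine conj_transfer Nat.prime_three (γ := Fin 6) (by simp [hβ])
      (u0 := c[(0 : Fin 6), 1, 2] * c[(3 : Fin 6), 4, 5]) (w0 := c[(0 : Fin 6), 1, 2])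
      (by rw [ha]; decide +kernel) (by rw [hb]; decide +kernel) good_six_two_one
  by_cases hu6 : 6 ≤ u.support.card
  · exact Or.inl (main u w hw hu3 hw3 2 0 1 3 (by omega) (by omega) (by omega) (by omega) rfl hloc)
  · exact Or.inr (main w u hu hw3 hu3 2 0 1 3 (by omega) (by omega) (by omega) (by omega) rfl hloc)

theorem exists_conj_alternating (hn : 5 ≤ Fintype.card α) (hp : p.Prime) (hp3 : 3 ≤ p)
    {u w : Perm α} (hu : u ≠ 1) (hw : w ≠ 1) {d e : ℕ} (hud : orderOf u = p ^ d)
    (hwe : orderOf w = p ^ e) :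
    (∃ g : Perm α, Perm.sign g = 1 ∧ Good p u (g * w * g⁻¹)) ∨
      ∃ g : Perm α, Perm.sign g = 1 ∧ Good p w (g * u * g⁻¹) := by
  classical
  set M := u.cycleType + w.cycleType with hM
  have hne : M.toFinset.Nonempty := by
    obtain ⟨s, hs⟩ := Multiset.exists_mem_of_ne_zero (s := u.cycleType)
      (fun h => hu (Perm.cycleType_eq_zero.1 h))
    exact ⟨s, Multiset.mem_toFinset.2 (Multiset.mem_add.2 (Or.inl hs))⟩
  obtain ⟨k, hkM, hmax⟩ := Finset.exists_max_image M.toFinset id hne
  simp only [Multiset.mem_toFinset, id] at hkM hmax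
  obtain ⟨a, ha⟩ : ∃ a, k = p ^ a := by
    rcases Multiset.mem_add.1 hkM with h | h
    · exact parts_pow hp (dvd_of_eq hud) h
    · exact parts_pow hp (dvd_of_eq hwe) h
  by_cases h5 : 5 ≤ k
  · rcases Multiset.mem_add.1 hkM with h | h
    · rw [Perm.cycleType_def] at h
      obtain ⟨c, hc, hck⟩ := Multiset.mem_map.1 h
      exact Or.inl (exists_conj_big hp hp3 hw (dvd_of_eq hwe) hc (hck.trans ha) (ha ▸ h5)
        fun s hs => ha ▸ hmax s (Multiset.mem_add.2 (Or.inr hs)))
    · rw [Perm.cycleType_def] at h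
      obtain ⟨c, hc, hck⟩ := Multiset.mem_map.1 h
      exact Or.inr (exists_conj_big hp hp3 hu (dvd_of_eq hud) hc (hck.trans ha) (ha ▸ h5)
        fun s hs => ha ▸ hmax s (Multiset.mem_add.2 (Or.inl hs)))
  have hparts : ∀ s ∈ M, p ≤ s ∧ s < 5 := by
    intro s hs
    refine ⟨?_, by have := hmax s hs; omega⟩
    obtain ⟨i, rfl⟩ : ∃ i, s = p ^ i := by
      rcases Multiset.mem_add.1 hs with h | h
      · exact parts_pow hp (dvd_of_eq hud) h
      · exact parts_pow hp (dvd_of_eq hwe) h
    have h2 : 2 ≤ p ^ i := by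
      rcases Multiset.mem_add.1 hs with h | h <;> exact Perm.two_le_of_mem_cycleType h
    rcases i with _ | i
    · simp at h2
    · exact Nat.le_self_pow (by omega) p
  have hp3' : p = 3 := by
    have := hparts k hkM
    have h4 : p ≠ 4 := by rintro rfl; norm_num at hp
    omega
  subst hp3'
  have h3 : ∀ s ∈ M, s = 3 := by
    intro s hs
    have := hparts s hs
    obtain ⟨i, rfl⟩ : ∃ i, s = 3 ^ i := by
      rcases Multiset.mem_add.1 hs with h | h
      · exact parts_pow hp (dvd_of_eq hud) h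
      · exact parts_pow hp (dvd_of_eq hwe) h
    rcases i with _ | _ | i
    · omega
    · simp
    · have : 9 ≤ 3 ^ (i + 1 + 1) := by
        rw [pow_succ, pow_succ]
        have := Nat.one_le_pow i 3 (by norm_num)
        omega
      omega
  exact exists_conj_three hn hu hw (fun s hs => h3 s (Multiset.mem_add.2 (Or.inl hs)))
    (fun s hs => h3 s (Multiset.mem_add.2 (Or.inr hs)))

end Cfsg.Agent.Perm.CycleProduct
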