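import Mathlib

/-! A full cycle and an odd cycle of coprime length generate a nonsolvable group. -/

set_option autoImplicit false

namespace Cfsg.Agent.Perm.CycleProduct

open MulAction
open scoped Pointwise

variable {α : Type*} [Fintype α] [DecidableEq α]

theorem isPretransitive_of_cycle {G : Subgroup (Equiv.Perm α)} {c : Equiv.Perm α} (hc : c ∈ G)
    (hcyc : c.IsCycle) (hfull : c.support = Finset.univ) : IsPretransitive G α := by
  refine ⟨fun a b => ?_⟩
  have ha : c a ≠ a := Equiv.Perm.mem_support.1 (hfull ▸ Finset.mem_univ a)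
  have hb : c b ≠ b := Equiv.Perm.mem_support.1 (hfull ▸ Finset.mem_univ b)
  obtain ⟨i, hi⟩ := hcyc.exists_zpow_eq ha hb
  exact ⟨⟨c ^ i, zpow_mem hc i⟩, hi⟩

theorem isPreprimitive_of_cycles {G : Subgroup (Equiv.Perm α)} {c z : Equiv.Perm α} (hc : c ∈ G)
    (hz : z ∈ G) (hcyc : c.IsCycle) (hfull : c.support = Finset.univ) (hzc : z.IsCycle)
    (hcop : Nat.Coprime z.support.card (Fintype.card α)) {x : α} (hx : x ∈ z.support)
    (hcx : c x ∈ z.support) : IsPreprimitive G α := by
  haveI := isPretransitive_of_cycle hc hcyc hfull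
  refine ⟨fun {B} hB => ?_⟩
  by_contra hnot
  simp only [IsTrivialBlock, not_or] at hnot
  obtain ⟨hns, hnu⟩ := hnot
  obtain ⟨b, hb⟩ := (Set.not_subsingleton_iff.1 hns).nonempty
  obtain ⟨g, hg⟩ := exists_smul_eq G b x
  set B' := g • B with hB'
  have hB'b : IsBlock G B' := hB.translate g
  have hxB' : x ∈ B' := hg ▸ Set.smul_mem_smul_set hb
  have hnu' : B' ≠ Set.univ := fun h => hnu (by
    have := congrArg (fun S : Set α => g⁻¹ • S) h
    simpa [hB'] using this)
  have hns' : ¬ B'.Subsingleton := fun h => hns (by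
    intro u hu v hv
    have := h (Set.smul_mem_smul_set (a := g) hu) (Set.smul_mem_smul_set (a := g) hv)
    exact (MulAction.injective g) this)
  let c' : G := ⟨c, hc⟩
  let z' : G := ⟨z, hz⟩
  have hcxB : c x ∉ B' := by
    intro h
    have hfix : c' • B' = B' :=
      hB'b.smul_eq_of_nonempty ⟨c x, ⟨x, hxB', rfl⟩, h⟩
    apply hnu'
    ext y
    simp only [Set.mem_univ, iff_true]
    have hy : c y ≠ y := Equiv.Perm.mem_support.1 (hfull ▸ Finset.mem_univ y)
    have hx' : c x ≠ x := Equiv.Perm.mem_support.1 (hfull ▸ Finset.mem_univ x)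
    obtain ⟨i, hi⟩ := hcyc.exists_zpow_eq hx' hy
    have hmem : c' ^ i ∈ stabilizer G B' := zpow_mem hfix i
    rw [← hi, ← mem_stabilizer_iff.1 hmem]
    exact ⟨x, hxB', rfl⟩
  have hmove : z' • B' ≠ B' := by
    intro h
    obtain ⟨i, hi⟩ := hzc.exists_zpow_eq (Equiv.Perm.mem_support.1 hx)
      (Equiv.Perm.mem_support.1 hcx)
    have hmem : z' ^ i ∈ stabilizer G B' := zpow_mem h i
    apply hcxB
    rw [← hi, ← mem_stabilizer_iff.1 hmem]
    exact ⟨x, hxB', rfl⟩
  -- the block of every point
  choose t ht using fun y : α => exists_smul_eq G x y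
  set f : α → Set α := fun y => t y • B' with hf
  have hfmem : ∀ y, y ∈ f y := fun y => ⟨x, hxB', ht y⟩
  have hfeq : ∀ y w, w ∈ f y → f w = f y := by
    intro y w hw
    exact (isBlock_iff_smul_eq_smul_or_disjoint.1 hB'b (t w) (t y)).resolve_right
      (Set.not_disjoint_iff.2 ⟨w, hfmem w, hw⟩)
  have hfne : ∀ y ∈ z.support, z' • f y ≠ f y := by
    intro y hy h
    obtain ⟨i, hi⟩ := hzc.exists_zpow_eq (Equiv.Perm.mem_support.1 hy)
      (Equiv.Perm.mem_support.1 hx)
    have hmem : z' ^ i ∈ stabilizer G (f y) := zpow_mem h i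
    have hxf : x ∈ f y := by
      rw [← mem_stabilizer_iff.1 hmem, ← hi]
      exact ⟨y, hfmem y, rfl⟩
    have h1 : f y = B' :=
      ((isBlock_iff_smul_eq_or_disjoint.1 hB'b (t y)).resolve_right
        (Set.not_disjoint_iff.2 ⟨x, hxf, hxB'⟩))
    exact hmove (h1 ▸ h)
  have hsub : ∀ y ∈ z.support, ∀ w ∈ f y, w ∈ z.support := by
    intro y hy w hw
    rw [Equiv.Perm.mem_support]
    intro hzw
    apply hfne y hy
    have hblk : IsBlock G (f y) := hB'b.translate (t y)
    exact hblk.smul_eq_of_nonempty ⟨z w, ⟨w, hw, rfl⟩, hzw.symm ▸ hw⟩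
  have hcard : ∀ y, (Finset.univ.filter fun w => f w = f y).card = B'.ncard := by
    intro y
    rw [← Set.ncard_coe_finset, ← Set.ncard_smul_set (t y) B']
    congr 1
    ext w
    simp only [Finset.coe_filter, Finset.mem_univ, true_and, Set.mem_setOf_eq]
    exact ⟨fun h => by
      have := hfmem w
      rw [h] at this
      exact this, fun h => hfeq y w h⟩
  have key : ∀ S : Finset α, (∀ y ∈ S, ∀ w ∈ f y, w ∈ S) → B'.ncard ∣ S.card := by
    intro S hS
    rw [Finset.card_eq_sum_card_image f S]
    apply Finset.dvd_sum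
    intro v hv
    obtain ⟨y, hy, rfl⟩ := Finset.mem_image.1 hv
    rw [show (S.filter fun w => f w = f y) = Finset.univ.filter fun w => f w = f y from ?_,
      hcard]
    ext w
    simp only [Finset.mem_filter, Finset.mem_univ, true_and]
    exact ⟨fun h => h.2, fun h => ⟨hS y hy w (h ▸ hfmem w), h⟩⟩
  have h1 := key z.support hsub
  have h2 := key Finset.univ fun _ _ w _ => Finset.mem_univ w
  rw [Finset.card_univ] at h2
  have hb1 : B'.ncard = 1 := Nat.eq_one_of_dvd_coprimes hcop h1 h2
  obtain ⟨u, hu⟩ := Set.ncard_eq_one.1 hb1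
  exact hns' (hu ▸ Set.subsingleton_singleton)

theorem not_isSolvable_of_cycles {G : Subgroup (Equiv.Perm α)} {c z : Equiv.Perm α} (hc : c ∈ G)
    (hz : z ∈ G) (hcyc : c.IsCycle) (hfull : c.support = Finset.univ)
    (hodd : Odd (Fintype.card α)) (hzc : z.IsCycle) (hm : Odd z.support.card)
    (hcop : Nat.Coprime z.support.card (Fintype.card α)) {x : α} (hx : x ∈ z.support)
    (hcx : c x ∈ z.support) : ¬ Group.IsSolvable G := by
  intro hsol
  haveI := isPretransitive_of_cycle hc hcyc hfull
  haveI := isPreprimitive_of_cycles hc hz hcyc hfull hzc hcop hx hcx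
  haveI : Nontrivial G := ⟨⟨c, hc⟩, 1, fun h => hcyc.ne_one (congrArg Subtype.val h)⟩
  obtain ⟨n, hn⟩ := (Group.isSolvable_def G).1 hsol
  classical
  have hex : ∃ j, derivedSeries G j = ⊥ := ⟨n, hn⟩
  obtain ⟨d, hd⟩ : ∃ d, Nat.find hex = d + 1 :=
    Nat.exists_eq_succ_of_ne_zero fun h => by
      have := Nat.find_spec hex
      rw [h, derivedSeries_zero] at this
      exact top_ne_bot this
  set A := derivedSeries G d with hA
  have hAne : A ≠ ⊥ := Nat.find_min hex (by omega)
  have hAcomm : ∀ a ∈ A, ∀ b ∈ A, a * b = b * a := by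
    intro a ha b hb
    have h := Nat.find_spec hex
    rw [hd, derivedSeries_succ, Subgroup.commutator_eq_bot_iff_le_centralizer] at h
    exact ((Subgroup.mem_centralizer_iff.1 (h ha)) b hb).symm
  haveI : A.Normal := derivedSeries_normal G d
  haveI : IsPretransitive A α := by
    apply MulAction.IsQuasiPreprimitive.isPretransitive_of_normal
    intro hfix
    apply hAne
    rw [Subgroup.eq_bot_iff_forall]
    intro a ha
    apply Subtype.ext
    apply Equiv.ext
    intro y
    have : y ∈ fixedPoints A α := hfix ▸ Set.mem_univ y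
    exact this ⟨a, ha⟩
  -- a fixed point of z
  obtain ⟨y0, hy0⟩ : ∃ y, z y = y := by
    by_contra h
    push Not at h
    have hu : z.support = Finset.univ := Finset.eq_univ_of_forall fun y =>
      Equiv.Perm.mem_support.2 (h y)
    rw [hu, Finset.card_univ, Nat.coprime_self] at hcop
    have h2 := hzc.two_le_card_support
    rw [hu, Finset.card_univ] at h2
    omega
  have hinj : Function.Injective fun a : A => (a • y0 : α) := by
    intro a b hab
    apply Subtype.ext
    apply Subtype.ext
    apply Equiv.ext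
    intro y
    obtain ⟨e, he⟩ := exists_smul_eq A y0 y
    rw [← he]
    show (((a : G) * (e : G) : G) : Equiv.Perm α) y0 = (((b : G) * (e : G) : G) : Equiv.Perm α) y0
    rw [hAcomm _ a.2 _ e.2, hAcomm _ b.2 _ e.2]
    exact congrArg (fun t => ((e : G) : Equiv.Perm α) t) hab
  have hbij : Function.Bijective fun a : A => (a • y0 : α) :=
    ⟨hinj, fun y => exists_smul_eq A y0 y⟩
  have hcardA : Nat.card A = Fintype.card α := by
    rw [Nat.card_eq_of_bijective _ hbij, Nat.card_eq_fintype_card]
  let z' : G := ⟨z, hz⟩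
  let C : Subgroup A :=
    { carrier := {a : A | z' * (a : G) = (a : G) * z'}
      one_mem' := by simp
      mul_mem' := by
        intro a b ha hb
        simp only [Set.mem_setOf_eq, Subgroup.coe_mul] at *
        rw [← mul_assoc, ha, mul_assoc, hb, mul_assoc]
      inv_mem' := by
        intro a ha
        simp only [Set.mem_setOf_eq, Subgroup.coe_inv] at *
        exact (Commute.inv_right ha).eq }
  have hfixC : Nat.card C = (Finset.univ.filter fun y => z y = y).card := by
    rw [← Nat.card_eq_finsetCard]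
    refine Nat.card_eq_of_bijective (fun a : C => (⟨((a : A) • y0 : α), ?_⟩ :
      (Finset.univ.filter fun y => z y = y))) ⟨?_, ?_⟩
    · simp only [Finset.mem_filter, Finset.mem_univ, true_and]
      have h := congrArg (fun t : G => (t : Equiv.Perm α) y0) a.2
      show z ((((a : A) : G) : Equiv.Perm α) y0) = (((a : A) : G) : Equiv.Perm α) y0
      simpa [z', hy0] using h
    · intro a b hab
      exact Subtype.ext (hinj (congrArg Subtype.val hab))
    · rintro ⟨y, hy⟩
      simp only [Finset.mem_filter, Finset.mem_univ, true_and] at hy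
      obtain ⟨a, ha⟩ := hbij.2 y
      have hconj : (⟨z' * (a : G) * z'⁻¹, Subgroup.Normal.conj_mem ‹A.Normal› _ a.2 _⟩ : A) = a := by
        apply hinj
        have hzi : z⁻¹ y0 = y0 := Equiv.Perm.inv_eq_iff_eq.2 hy0.symm
        show z (((a : G) : Equiv.Perm α) (z⁻¹ y0)) = _
        rw [hzi]
        change z (a • y0) = a • y0
        rw [show (a • y0 : α) = y from ha, hy]
      refine ⟨⟨a, ?_⟩, Subtype.ext ha⟩
      show z' * (a : G) = (a : G) * z'
      exact mul_inv_eq_iff_eq_mul.1 (congrArg Subtype.val hconj)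
  have hdiv : (Finset.univ.filter fun y => z y = y).card ∣ Fintype.card α := by
    rw [← hfixC, ← hcardA]; exact Subgroup.card_subgroup_dvd_card C
  have hsum : (Finset.univ.filter fun y => z y = y).card + z.support.card = Fintype.card α := by
    rw [show z.support = Finset.univ.filter fun y => ¬ z y = y from rfl,
      Finset.card_filter_add_card_filter_not, Finset.card_univ]
  have h3 : Odd (Finset.univ.filter fun y => z y = y).card := Odd.of_dvd_nat hodd hdiv
  rw [← hsum] at hodd
  exact Nat.not_odd_iff_even.2 (h3.add_odd hm) hodd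

end Cfsg.Agent.Perm.CycleProduct
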